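import Cfsg.Agent.Mrg.Omega.IIa4.Sit
import Cfsg.Agent.Mrg.Omega.Lie.LayerPerf
import Cfsg.Agent.Mrg.Omega.FrameI
import Cfsg.Agent.Mrg.Omega.BTwo.CoordNat
import Cfsg.Agent.Mrg.Omega.BTwo.Semi
import Cfsg.Agent.Lib.CoprimeCommutator
import Cfsg.Agent.Mrg.Omega.Lie.LemmaTComp

section


/-!
# II.a, `q ≥ 4`: the layer of `H = N(R i)/O₂(N(R i))` (interface; output of NODE LIE, LAYER)

`Lay V R i j T S` : `A = AA V R i j` centralises the odd part of `H⁰ = C(R i)/O₂`, and every component `K ≤ H⁰` with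
`[K, A] ≠ 1` is of Lie type of characteristic 2, is normalised by `T`, and `A` acts on it as `A ⊓ K` (`CompB.Hyp`).
-/

set_option autoImplicit false
set_option linter.unusedSectionVars false

namespace Cfsg.Agent.Omega.IIa4

open Subgroup Cfsg Cfsg.Agent.ZN Cfsg.Agent.Omega.NatPair Cfsg.Agent.Omega.BTwo
open Cfsg.Agent.Omega.Frame Cfsg.Agent.Omega.FrameFF Cfsg.Agent.Omega.Lie Cfsg.Agent.Omega.Lie.Quot

universe u

/-- the components `K ≤ H⁰` moved by `A` -/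
def MComp {G : Type*} [Group G] {ι : Type*} (V : Subgroup G) (R : ι → Subgroup G) (i j : ι)
    (K : Subgroup (HQ (R i))) : Prop :=
  IsComponent K ∧ K ≤ H0 R i ∧ ∃ a ∈ AA V R i j, ∃ k ∈ K, a * k ≠ k * a

/-- **LAYER.** -/
structure Lay {G : Type*} [Group G] {ι : Type*} (V : Subgroup G) (R : ι → Subgroup G) (i j : ι)
    (T S : Subgroup (HQ (R i))) : Prop where
  odd : Layer.OddC V R i j
  hyp : ∀ K : Subgroup (HQ (R i)), MComp V R i j K → CompB.Hyp S (AA V R i j) T K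
  lie : ∀ K : Subgroup (HQ (R i)), MComp V R i j K → IsLieTypeChar 2 (K ⧸ center K)

/-- LAYER at every pair of points -/
def LayAll {G : Type u} [Group G] {ι : Type*} (V : Subgroup G) (R : ι → Subgroup G) (F : Type) [Field F] : Prop :=
  ∀ (i j : ι), i ≠ j → ∀ (v : F → F → G) (w1 w2 : F → G) (t : F → G), Coord V R i j v w1 w2 →
    ∀ (τ : TorD V R i j v t) (S₁ : Sylow 2 G), (S₁ : Subgroup G) ≤ normalizer (V : Set G) →
      (S₁ : Subgroup G) ≤ normalizer (R i : Set G) → Lay V R i j (TT τ) (SS R i S₁)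

/-- a component has centre of odd order if `O₂(H) = 1` -/
theorem center_eq_one {H : Type*} [Group H] [Finite H] (hO : pCore 2 H = ⊥) {K : Subgroup H}
    (hK : IsComponent K) {x : H} (hx : x ∈ K) (hc : ∀ y ∈ K, x * y = y * x) (h2 : x * x = 1) : x = 1 := by
  have hfact : Fact (Nat.Prime 2) := ⟨Nat.prime_two⟩
  let Z : Subgroup K := zpowers ⟨x, hx⟩
  have h1 : (⟨x, hx⟩ : K) ∈ center K := by
    rw [mem_center_iff]
    intro y
    exact Subtype.ext (hc y y.2).symm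
  have hZc : Z ≤ center K := zpowers_le.2 h1
  have hZn : Z.Normal := ⟨fun z hz y => by
    have h1 := mem_center_iff.1 (hZc hz) y
    have h2 : y * z * y⁻¹ = z := by rw [h1]; group
    rwa [h2]⟩
  have hZp : IsPGroup 2 Z := by
    rw [IsPGroup.iff_card]
    have h2 : Nat.card Z ∣ 2 := by
      rw [Nat.card_zpowers]
      exact orderOf_dvd_of_pow_eq_one (by rw [pow_two]; exact Subtype.ext h2)
    rcases (Nat.dvd_prime Nat.prime_two).1 h2 with h3 | h3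
    · exact ⟨0, by rw [h3, pow_zero]⟩
    · exact ⟨1, by rw [h3, pow_one]⟩
  have hZs : (Z.map K.subtype).IsSubnormal := (Normal.isSubnormal hZn).trans' hK.1
  have h2 := SignalizersComponents.CompBasic.subnormal_pGroup_le_pCore hZs (hZp.map K.subtype)
  rw [hO] at h2
  exact h2 ⟨⟨x, hx⟩, mem_zpowers _, rfl⟩

namespace Lay

variable {G : Type u} [Group G] {ι : Type*} {V : Subgroup G} {R : ι → Subgroup G} {i j : ι}
  {T S : Subgroup (HQ (R i))} (h : Lay V R i j T S)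
include h

theorem innC : Layer.InnC V R i j := by
  intro K hK hK0
  by_cases hne : ∃ a ∈ AA V R i j, ∃ k ∈ K, a * k ≠ k * a
  · exact Layer.InnA.of_hyp (h.hyp K ⟨hK, hK0, hne⟩)
  · push Not at hne
    exact Layer.InnA.of_comm hne

/-- the normal closure of `A` is perfect -/
theorem perf [Finite G] (b : BT V R) (hij : i ≠ j) : Perf V R i j :=
  Layer.perf_of b hij h.odd h.innC

theorem A_le [Finite G] (b : BT V R) (hij : i ≠ j) :
    AA V R i j ≤ ⨆ K ∈ {K : Subgroup (HQ (R i)) | MComp V R i j K}, AA V R i j ⊓ K := by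
  refine (Layer.A_le_iSup b hij h.odd h.innC).trans (iSup₂_le fun K hK => ?_)
  by_cases hne : ∃ a ∈ AA V R i j, ∃ k ∈ K, a * k ≠ k * a
  · exact le_iSup₂ (f := fun (K : Subgroup (HQ (R i))) (_ : K ∈ {K : Subgroup (HQ (R i)) | MComp V R i j K}) =>
      AA V R i j ⊓ K) K ⟨hK.1, hK.2, hne⟩
  · have h1 : AA V R i j ⊓ K = ⊥ := by
      rw [eq_bot_iff]
      intro x hx
      push Not at hne
      exact center_eq_one (pCore_HQ (R i)) hK.1 hx.2 (fun y hy => hne x hx.1 y hy) (A_sq b hij hx.1)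
    rw [h1]
    exact bot_le

end Lay

end Cfsg.Agent.Omega.IIa4

end

section


/-!
# The leaf II.a, `q ≥ 4` (`FrameFF.LeafA4 K`) from its parts (project OMEGA, assembler: helper978)

Situation: `IIa4.Sit S P g M`, i.e. `Ctx G`, `Full S`, `AllIn S`, `AllFree S`, `MinSame S P g`, `V = V_P = zl S P`
natural for `SL₂(F)` (`M : NatMod F V`), `|F| ≥ 4`.  `R i = pt M i` the points of `V`, `W i = ⟨V^{N(R i)}⟩`,
`Q i = O₂(N(R i))`, `U i = C_{W i}(V)`, `A = U j Q i / Q i`.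

Landed and plugged in: `b = 2` (`IIa4.Sit.V_le_QQ`), the structure `BTC` (`IIa4.Sit.btc`), coordinates, torus,
`Coord.semi` (#11043).

Parts (each a Prop):
* `LayP K` : the layer of `N(R)/O₂(N(R))` (`IIa4.Lay`; the component theorem);
* `SEP K` : `C_{W/R}(S₁ ∩ C(R)) = V/R`;
* `TIRP` : `R` is a TI-set (THEOREM TIR, K-free): proved by helper450, `IIa4.tirp` (`IIa4/Tirp.lean`);
* `AllP` : `⟨N(V), N(R)⟩ = G` (THEOREM ALL, K-free): proved, `allP`;
* `LieBNP K` : a subgroup `G₀ ≠ 1` with a BN-pair, normalised by `N(V)` and `N(R)` (or `G` is known).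

`leafA4_of` : `LeafA4 K` from S1143, S1144 and these; `Node/LeafA4Main.lean` has the version without `TIRP`.
-/

set_option autoImplicit false
set_option linter.unusedSectionVars false

namespace Cfsg.Agent.Omega.IIa4

open Subgroup Cfsg Cfsg.Agent.ZN Cfsg.Agent.Omega.NatPair Cfsg.Agent.Omega.BTwo
open Cfsg.Agent.Omega.Frame Cfsg.Agent.Omega.FrameFF

universe u

/-! ### Predicates of the configuration -/

/-- `R i` is a TI-set: `1 ≠ r ∈ R i`, `r^g ∈ R i` imply `g ∈ N(R i)` -/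
def TIR {G : Type*} [Group G] {ι : Type*} (R : ι → Subgroup G) : Prop :=
  ∀ (i : ι) (g r : G), r ∈ R i → r ≠ 1 → g * r * g⁻¹ ∈ R i → g ∈ normalizer (R i : Set G)

/-- `C_{W/R}(S₁ ∩ C(R)) = V/R` for the Sylow 2-subgroups `S₁` of `G` in `N(V) ∩ N(R)` -/
def CenSE {G : Type*} [Group G] {ι : Type*} (V : Subgroup G) (R : ι → Subgroup G) : Prop :=
  ∀ (i : ι) (S₁ : Sylow 2 G), (S₁ : Subgroup G) ≤ normalizer (V : Set G) →
    (S₁ : Subgroup G) ≤ normalizer (R i : Set G) →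
    ∀ x ∈ WW V (R i), (∀ s ∈ (S₁ : Subgroup G), s ∈ centralizer (R i : Set G) → s * x * s⁻¹ * x⁻¹ ∈ R i) → x ∈ V

/-- `N(V)` and `N(R i)` generate `G` -/
def GenVR {G : Type*} [Group G] {ι : Type*} (V : Subgroup G) (R : ι → Subgroup G) : Prop :=
  ∀ (i : ι) (Y : Subgroup G), normalizer (V : Set G) ≤ Y → normalizer (R i : Set G) ≤ Y → Y = ⊤

/-- a BN-pair as needed in S1143 or S1144 -/
def HasBN (X : Type*) [Group X] : Prop :=
  (∃ B : BNPair X, 3 ≤ B.rank ∧ B.Irreducible) ∨ ∃ B : BNPair X, 1 ≤ B.rank ∧ B.IsSplit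

/-- a subgroup `G₀ ≠ 1` with a BN-pair normalised by `N(V)` and `N(R i)` -/
def GZero {G : Type*} [Group G] {ι : Type*} (V : Subgroup G) (R : ι → Subgroup G) : Prop :=
  ∃ (i : ι) (G₀ : Subgroup G), G₀ ≠ ⊥ ∧ normalizer (V : Set G) ≤ normalizer (G₀ : Set G) ∧
    normalizer (R i : Set G) ≤ normalizer (G₀ : Set G) ∧ HasBN ↥G₀

/-! ### The parts -/

section parts

variable (K : Cls.{u})

/-- **LAYER** (the component theorem).
Text: #11541 (2)-(5) with #12957, #13121 (`q ≥ 8`); #12098, #12707, #12397 (`q = 4`).  Assembly: helper287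
(`Omega/Lie/Layer*.lean`), with helper452 (Quot), 484 (Exo), 843, 932 (odd part), 835, 898 (T2), 460 (LQ). -/
def LayP : Prop :=
  ∀ (G : Type u) [Group G] [Finite G], K G → ∀ (S : Sylow 2 G) (P : Subgroup G) (g : G) (F : Type) [Field F]
    [Finite F] [CharP F 2] (M : NatMod F (zl (S : Subgroup G) P)), Sit S P g M →
      LayAll (zl (S : Subgroup G) P) (pt M) F

/-- **`C_M(S_E) = e`** : `C_{W/R}(S₁ ∩ C(R)) = V/R`.
Text: LEMMA CEN #14596 (helper95), THEOREM D #15015 (helper407).  Owner: helper95 (`Omega/Lie/SE.lean`), helper407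
(`Omega/Lie/ThmD.lean`). -/
def SEP : Prop :=
  ∀ (G : Type u) [Group G] [Finite G], K G → ∀ (S : Sylow 2 G) (P : Subgroup G) (g : G) (F : Type) [Field F]
    [Finite F] [CharP F 2] (M : NatMod F (zl (S : Subgroup G) P)), Sit S P g M →
      LayAll (zl (S : Subgroup G) P) (pt M) F →
      SemiOut (zl (S : Subgroup G) P) (pt M) → CenSE (zl (S : Subgroup G) P) (pt M)

/-- **THEOREM TIR** (K-free): `R` is a TI-set.  Text: #13229 (helper522), #13299 (helper450).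
Owner: helper450 (`Omega/BTwo/Cz.lean`), helper522. -/
def TIRP : Prop :=
  ∀ (G : Type u) [Group G] [Finite G] (S : Sylow 2 G) (P : Subgroup G) (g : G) (F : Type) [Field F]
    [Finite F] [CharP F 2] (M : NatMod F (zl (S : Subgroup G) P)), Sit S P g M →
      SemiOut (zl (S : Subgroup G) P) (pt M) → CenSE (zl (S : Subgroup G) P) (pt M) → TIR (pt M)

/-- **THEOREM ALL** (K-free): every `P' ∈ P(S)` lies in `N(R)` or in `N(V)`, so `⟨N(V), N(R)⟩ = G`.
Text: #13114 (helper47), #13498 (helper221).  Proved: `allP`. -/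
def AllP : Prop :=
  ∀ (G : Type u) [Group G] [Finite G] (S : Sylow 2 G) (P : Subgroup G) (g : G) (F : Type) [Field F]
    [Finite F] [CharP F 2] (M : NatMod F (zl (S : Subgroup G) P)), Sit S P g M →
      SemiOut (zl (S : Subgroup G) P) (pt M) → CenSE (zl (S : Subgroup G) P) (pt M) → TIR (pt M) →
      GenVR (zl (S : Subgroup G) P) (pt M)

/-- **The BN-pair of `G₀`**.  Text: NODE THEOREM #14331 (helper493), architecture #14551 (helper43): THEOREM PAR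
(`ParSys/PSysMain.lean`); rank two end: `SQEnd` (helper326, 195; `|k| = 4`: `G` is known). -/
def LieBNP : Prop :=
  ∀ (G : Type u) [Group G] [Finite G], K G → ∀ (S : Sylow 2 G) (P : Subgroup G) (g : G) (F : Type) [Field F]
    [Finite F] [CharP F 2] (M : NatMod F (zl (S : Subgroup G) P)), Sit S P g M →
      LayAll (zl (S : Subgroup G) P) (pt M) F →
      SemiOut (zl (S : Subgroup G) P) (pt M) → CenSE (zl (S : Subgroup G) P) (pt M) → TIR (pt M) →
      GZero (zl (S : Subgroup G) P) (pt M) ∨ IsKnownSimple' G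

end parts

/-! ### The glue -/

namespace Sit

variable {G : Type u} [Group G] [Finite G] {S : Sylow 2 G} {P : Subgroup G} {g : G} {F : Type} [Field F]
  [Finite F] [CharP F 2] {M : NatMod F (zl (S : Subgroup G) P)} (h : Sit S P g M)
include h

/-- the point normalised by `S` -/
theorem exists_pt : ∃ i : Pt M, (S : Subgroup G) ≤ normalizer (pt M i : Set G) := by
  obtain ⟨i, -, -⟩ := h.exists_pair
  have hZ : zc (S : Subgroup G) ≠ ⊥ := by
    refine MinSimple.Basic.zc_ne_bot S.isPGroup' fun h0 => h.bt.R_ne i (eq_bot_iff.2 ?_)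
    exact ((h.bt.R_le i).trans ((h.allIn P h.isParS).trans (All.o2_CZ_le S))).trans_eq h0
  obtain ⟨z, hz1⟩ := Subgroup.ne_bot_iff_exists_ne_one.1 hZ
  have hz := MinSimple.VModule.mem_zc.1 z.2
  obtain ⟨i₀, -, hi₀⟩ := exists_fixed h.bt h.le_N (h.zc_le z.2) (fun h0 => hz1 (Subtype.ext h0)) hz.2.1
  exact ⟨i₀, hi₀⟩

theorem exists_ne_pt (i : Pt M) : ∃ j : Pt M, i ≠ j := by
  obtain ⟨i', j', hij⟩ := h.exists_pair
  by_cases h1 : i = i'
  · exact ⟨j', h1 ▸ hij⟩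
  · exact ⟨i', h1⟩

theorem perf_of_lay (hl : LayAll (zl (S : Subgroup G) P) (pt M) F) :
    ∃ i j : Pt M, i ≠ j ∧ Perf (zl (S : Subgroup G) P) (pt M) i j := by
  obtain ⟨i, hR⟩ := h.exists_pt
  obtain ⟨j, hij⟩ := h.exists_ne_pt i
  obtain ⟨v, w1, w2, c⟩ := h.exists_coord hij
  obtain ⟨t, τ⟩ := h.exists_torD c
  exact ⟨i, j, hij, (hl i j hij v w1 w2 t c τ S h.le_N hR).perf h.bt hij⟩

theorem semi_of_lay (hl : LayAll (zl (S : Subgroup G) P) (pt M) F) :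
    SemiOut (zl (S : Subgroup G) P) (pt M) := by
  obtain ⟨i, j, hij, hp⟩ := h.perf_of_lay hl
  exact h.semi hij hp

end Sit

/-- THEOREM ALL, from helper221's `All.sup_eq_top` and helper942's `All.mixed` -/
theorem allP : AllP.{u} := by
  intro G _ _ S P g F _ _ _ M h hsemi hcen hti i Y hV hR
  exact h.genVR hsemi hcen hti i hV hR

/-- A simple group with a BN-pair is known. -/
theorem known_of_hasBN (h43 : Exits.St1143.{u}) (h44 : Exits.St1144.{u}) {X : Type u} [Group X] [Finite X]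
    [IsSimpleGroup X] (h : HasBN X) : IsKnownSimple' X := by
  rcases h with ⟨B, h1, h2⟩ | ⟨B, h1, h2⟩
  · exact Exits.known_lie (h43 X B h1 h2)
  · exact Exits.known_lie (h44 X B h1 h2)

theorem known_of_gZero (h43 : Exits.St1143.{u}) (h44 : Exits.St1144.{u}) {G : Type u} [Group G] [Finite G]
    (hG : Ctx G) {ι : Type*} {V : Subgroup G} {R : ι → Subgroup G} (hgen : GenVR V R) (h : GZero V R) :
    IsKnownSimple' G := by
  have hs := hG.simple
  obtain ⟨i, G₀, hne, h1, h2, hBN⟩ := h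
  have h3 : G₀.Normal := normalizer_eq_top_iff.mp (hgen i _ h1 h2)
  have h4 : G₀ = ⊤ := h3.eq_bot_or_eq_top.resolve_left hne
  have e : ↥G₀ ≃* G := (MulEquiv.subgroupCongr h4).trans Subgroup.topEquiv
  have hs' : IsSimpleGroup ↥G₀ := OddHalf.Known.isSimple_congr e.symm hs
  exact OddHalf.Known.isKnownSimple'_congr e (Exits.not_comm_congr e.symm hG.nonComm)
    (known_of_hasBN h43 h44 hBN)

/-- **The leaf II.a, `q ≥ 4`.** -/
theorem leafA4_of {K : Cls.{u}} (h43 : Exits.St1143.{u}) (h44 : Exits.St1144.{u}) (hlay : LayP K)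
    (hse : SEP K) (htir : TIRP.{u}) (hbn : LieBNP K) : LeafA4 K := by
  intro G _ _ hG hK S hF hLE hAF P g hmin F _ _ _ M h4
  have h : Sit S P g M := ⟨hG, hF, hLE, hAF, hmin, h4⟩
  have hl := hlay G hK S P g F M h
  have hsemi := h.semi_of_lay hl
  have hcen := hse G hK S P g F M h hl hsemi
  have hti := htir G S P g F M h hsemi hcen
  rcases hbn G hK S P g F M h hl hsemi hcen hti with h1 | h1
  · exact known_of_gZero h43 h44 hG (allP G S P g F M h hsemi hcen hti) h1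
  · exact h1

end Cfsg.Agent.Omega.IIa4

end

section


/-!
# II.a, `q ≥ 4`: LEMMA CA (`C_M(A) = e`)

`P₀` a 2-group with `Y ≤ P₀ ≤ C(V)`; `M = W i / R i`, `e = V / R i`, `A` the image of `U j`.  If `C_M(P₀) = e`
then `C_M(A) = e`:  `x ∈ W i`, `[U j, x] ≤ R i` imply `x ∈ V`.
-/

set_option autoImplicit false
set_option linter.unusedSectionVars false

namespace Cfsg.Agent.Omega.IIa4.CenA

open Subgroup Cfsg.Agent.Omega.BTwo Cfsg.Agent.Omega.Lie

universe u v w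

section cop

variable {G : Type u} [Group G]

/-- an abelian group `T` of odd order stabilising a coset `p Y` of a 2-group `Y` centralises an element of it -/
theorem exists_cen_coset [Finite G] {T Y : Subgroup G} (hT : ∀ a ∈ T, ∀ b ∈ T, a * b = b * a)
    (hTY : T ≤ normalizer (Y : Set G)) (ho : ∀ a ∈ T, Odd (orderOf a)) (hY : IsPGroup 2 Y) (p : G)
    (hp : ∀ a ∈ T, p⁻¹ * (a * p * a⁻¹) ∈ Y) : ∃ c, p⁻¹ * c ∈ Y ∧ ∀ a ∈ T, a * c = c * a := by
  classical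
  let S : Set (Subgroup G) := {B | B ≤ T ∧ ∃ c, p⁻¹ * c ∈ Y ∧ ∀ a ∈ B, a * c = c * a}
  have hne : S.Nonempty := ⟨⊥, bot_le, p, by rw [inv_mul_cancel]; exact one_mem _, fun a ha => by
    rw [mem_bot.1 ha, one_mul, mul_one]⟩
  obtain ⟨B, hB⟩ := (Set.toFinite S).exists_maximal hne
  obtain ⟨⟨hBT, c, hc, hcB⟩, hmax⟩ := hB
  suffices h : ∀ a ∈ T, a ∈ B from ⟨c, hc, fun a ha => hcB a (h a ha)⟩
  refine Lib.CoprimeCommutator.induction_prime_power T (· ∈ B) (one_mem _)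
    (fun a _ b _ h1 h2 => mul_mem h1 h2) ?_
  intro r n hr a ha hpow
  have hfr : Fact r.Prime := ⟨hr⟩
  by_cases ha1 : a = 1
  · rw [ha1]; exact one_mem _
  have hr2 : r ≠ 2 := by
    rintro rfl
    obtain ⟨k, -, hk⟩ := (Nat.dvd_prime_pow Nat.prime_two).1 (orderOf_dvd_of_pow_eq_one hpow)
    have h1 := ho a ha
    rw [hk] at h1
    rcases Nat.eq_zero_or_pos k with h0 | h0
    · rw [h0, pow_zero, orderOf_eq_one_iff] at hk
      exact ha1 hk
    · have h2 : Even (2 ^ k) := (Nat.even_pow.2 ⟨even_two, h0.ne'⟩)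
      exact (Nat.not_odd_iff_even.2 h2) h1
  have hN : IsPGroup 2 (Y ⊓ centralizer (B : Set G) : Subgroup G) := hY.to_le inf_le_left
  have hPg : IsPGroup r (zpowers a) := by
    rintro ⟨x, hx⟩
    obtain ⟨k, rfl⟩ := mem_zpowers_iff.1 hx
    refine ⟨n, Subtype.ext ?_⟩
    change (a ^ k) ^ r ^ n = 1
    rw [← zpow_natCast, ← zpow_mul, mul_comm, zpow_mul, zpow_natCast, hpow, one_zpow]
  have hTC : T ≤ normalizer (Y ⊓ centralizer (B : Set G) : Subgroup G) := by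
    intro t ht
    rw [← cj_eq_self_iff, cj_inf, cj_eq_self_iff.2 (hTY ht)]
    congr 1
    rw [cj_of_mem]
    rw [mem_centralizer_iff]
    exact fun b hb => hT b (hBT hb) t ht
  have hcT : ∀ a ∈ T, c⁻¹ * (a * c * a⁻¹) ∈ Y := by
    intro a ha
    have h1 := hp a ha
    have h2 := conj_mem_of_normalizer (hTY ha) hc
    have e : c⁻¹ * (a * c * a⁻¹) = (p⁻¹ * c)⁻¹ * (p⁻¹ * (a * p * a⁻¹)) * (a * (p⁻¹ * c) * a⁻¹) := by group
    rw [e]
    exact mul_mem (mul_mem (inv_mem hc) h1) h2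
  obtain ⟨d, hd, hcd⟩ := Lib.CoprimeCommutator.exists_fixed_in_coset r (zpowers a)
    (Y ⊓ centralizer (B : Set G)) hPg ((zpowers_le.2 ha).trans hTC) (by
      obtain ⟨m, hm⟩ := IsPGroup.iff_card.1 hN
      rw [hm]
      exact fun h => hr2 ((Nat.prime_dvd_prime_iff_eq hr Nat.prime_two).1 (hr.dvd_of_dvd_pow h))) c (by
      intro x hx
      have hxT := (zpowers_le.2 ha) hx
      refine mem_inf.2 ⟨hcT x hxT, ?_⟩
      have hcC : c ∈ centralizer (B : Set G) := mem_centralizer_iff.2 hcB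
      have hxC : x ∈ centralizer (B : Set G) := mem_centralizer_iff.2 fun b hb => hT b (hBT hb) x hxT
      exact mul_mem (inv_mem hcC) (mul_mem (mul_mem hxC hcC) (inv_mem hxC)))
  have hcC : c ∈ centralizer (B : Set G) := mem_centralizer_iff.2 hcB
  have hdC : d ∈ centralizer (B : Set G) := by
    have h1 := mul_mem hcC (mem_inf.1 hcd).2
    rwa [mul_inv_cancel_left] at h1
  have hin : B ⊔ zpowers a ∈ S := by
    refine ⟨sup_le hBT (zpowers_le.2 ha), d, ?_, ?_⟩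
    · have h1 := mul_mem hc (mem_inf.1 hcd).1
      rwa [mul_assoc, mul_inv_cancel_left] at h1
    · have h1 : B ⊔ zpowers a ≤ centralizer {d} := by
        refine sup_le (fun b hb => ?_) (fun b hb => ?_)
        · rw [mem_centralizer_iff]
          rintro _ rfl
          exact (mem_centralizer_iff.1 hdC b hb).symm
        · rw [mem_centralizer_iff]
          rintro _ rfl
          exact (mem_centralizer_iff.1 hd b hb).symm
      exact fun b hb => (mem_centralizer_iff.1 (h1 hb) d rfl).symm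
  exact hmax hin le_sup_left (mem_sup_right (mem_zpowers a))

end cop

variable {G : Type u} [Group G] {ι : Type w} {F : Type v} [Field F] {V : Subgroup G} {R : ι → Subgroup G}
  {i j : ι} {v : F → F → G} {w1 w2 : F → G} {t : F → G}

/-- `[c, x]` -/
def kp (c x : G) : G := c * x * c⁻¹ * x⁻¹

theorem kp_mul {c x y : G} : kp c (x * y) = kp c x * (x * kp c y * x⁻¹) := by unfold kp; group

theorem kp_mul_left {c d x : G} : kp (c * d) x = c * kp d x * c⁻¹ * kp c x := by unfold kp; group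

theorem kp_conj {g c x : G} : kp c (g * x * g⁻¹) = g * kp (g⁻¹ * c * g) x * g⁻¹ := by unfold kp; group

theorem kp_conj' {g c x : G} : kp (g * c * g⁻¹) (g * x * g⁻¹) = g * kp c x * g⁻¹ := by unfold kp; group

/-- `{x ∈ Y : [P₀, x] ≤ V}` -/
def YP (b : BT V R) (P₀ : Subgroup G) : Subgroup G where
  carrier := {x | x ∈ YY V R ∧ ∀ c ∈ P₀, kp c x ∈ V}
  one_mem' := ⟨one_mem _, fun c _ => by
    have e : kp c 1 = 1 := by unfold kp; group
    rw [e]; exact one_mem _⟩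
  mul_mem' := by
    rintro x y ⟨hx, hx'⟩ ⟨hy, hy'⟩
    refine ⟨mul_mem hx hy, fun c hc => ?_⟩
    rw [kp_mul]
    exact mul_mem (hx' c hc) (conj_mem_of_normalizer (Y_le_NV hx) (hy' c hc))
  inv_mem' := by
    have _ := b
    rintro x ⟨hx, hx'⟩
    refine ⟨inv_mem hx, fun c hc => ?_⟩
    have e : kp c x⁻¹ = x⁻¹ * (kp c x)⁻¹ * x := by unfold kp; group
    rw [e]
    exact conj_inv_mem_of_normalizer (Y_le_NV hx) (inv_mem (hx' c hc))

/-- `{x ∈ U k : [Y, x] ≤ R k}` -/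
def CY (b : BT V R) (k : ι) : Subgroup G where
  carrier := {x | x ∈ UU V R k ∧ ∀ y ∈ YY V R, kp y x ∈ R k}
  one_mem' := ⟨one_mem _, fun c _ => by
    have e : kp c 1 = 1 := by unfold kp; group
    rw [e]; exact one_mem _⟩
  mul_mem' := by
    rintro x y ⟨hx, hx'⟩ ⟨hy, hy'⟩
    refine ⟨mul_mem hx hy, fun c hc => ?_⟩
    rw [kp_mul]
    exact mul_mem (hx' c hc) (conj_mem_of_normalizer (b.cen_le_N k (UU_le_cen k hx)) (hy' c hc))
  inv_mem' := by
    rintro x ⟨hx, hx'⟩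
    refine ⟨inv_mem hx, fun c hc => ?_⟩
    have e : kp c x⁻¹ = x⁻¹ * (kp c x)⁻¹ * x := by unfold kp; group
    rw [e]
    exact conj_inv_mem_of_normalizer (b.cen_le_N k (UU_le_cen k hx)) (inv_mem (hx' c hc))

section basic

variable (b : BT V R) {P₀ : Subgroup G}

theorem mem_YP {x : G} : x ∈ YP b P₀ ↔ x ∈ YY V R ∧ ∀ c ∈ P₀, kp c x ∈ V := Iff.rfl

theorem mem_CY {k : ι} {x : G} : x ∈ CY b k ↔ x ∈ UU V R k ∧ ∀ y ∈ YY V R, kp y x ∈ R k := Iff.rfl

theorem CY_conj {g : G} (hg : g ∈ normalizer (V : Set G)) {k l : ι} (h : cj g (R k) = R l) {x : G}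
    (hx : x ∈ CY b k) : g * x * g⁻¹ ∈ CY b l := by
  refine ⟨?_, fun y hy => ?_⟩
  · rw [← b.cj_UU hg h]; exact conj_mem_cj hx.1
  · rw [kp_conj, ← h]
    exact conj_mem_cj (hx.2 _ (conj_inv_mem_of_normalizer (b.NV_le_NY hg) hy))

theorem V_le_CY (k : ι) : V ≤ CY b k := fun x hx => by
  refine ⟨b.D_le_U k (V_le_D V R hx), fun y hy => ?_⟩
  have e : kp y x = 1 := by
    unfold kp
    rw [← mem_centralizer_iff.1 (YY_le_cen hy) x hx]; group
  rw [e]; exact one_mem _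

theorem YP_conj (hP : P₀ ≤ centralizer (V : Set G)) (hY : YY V R ≤ P₀) {g : G} (hg : g ∈ XX V R) {x : G}
    (hx : x ∈ YP b P₀) : g * x * g⁻¹ ∈ YP b P₀ := by
  have hgV := b.X_le_NV hg
  refine ⟨conj_mem_of_normalizer (b.NV_le_NY hgV) hx.1, fun c hc => ?_⟩
  rw [kp_conj]
  exact conj_mem_of_normalizer hgV (hx.2 _ (conj_inv_mem_of_normalizer (X_le_N b hP hY hg) hc))

theorem V_le_YP (hP : P₀ ≤ centralizer (V : Set G)) : V ≤ YP b P₀ := fun x hx => by
  refine ⟨b.D_le_Y (V_le_D V R hx), fun c hc => ?_⟩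
  have e : kp c x = 1 := by
    unfold kp
    rw [← mem_centralizer_iff.1 (hP hc) x hx]; group
  rw [e]; exact one_mem _

theorem kp_V (hP : P₀ ≤ centralizer (V : Set G)) {c x : G} (hc : c ∈ P₀) (hx : x ∈ V) : kp c x = 1 := by
  unfold kp
  rw [← mem_centralizer_iff.1 (hP hc) x hx]; group

/-- `[c, x y] = [c, x] [c, y]` -/
theorem kmul {c x y : G} (hc : c ∈ P₀) (hx : x ∈ YP b P₀) (hy : y ∈ YP b P₀) :
    kp c (x * y) = kp c x * kp c y := by
  rw [kp_mul, ← mem_centralizer_iff.1 (YY_le_cen hx.1) _ (hy.2 c hc), mul_inv_cancel_right]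

theorem kmul_left (hP : P₀ ≤ centralizer (V : Set G)) {c d x : G} (hc : c ∈ P₀) (hd : d ∈ P₀)
    (hx : x ∈ YP b P₀) : kp (c * d) x = kp d x * kp c x := by
  rw [kp_mul_left, ← mem_centralizer_iff.1 (hP hc) _ (hx.2 d hd), mul_inv_cancel_right]

/-- relation (a) -/
theorem rel_a (hP : P₀ ≤ centralizer (V : Set G)) (hY : YY V R ≤ P₀) {g c x : G} (hg : g ∈ XX V R)
    (hc : c ∈ P₀) {k : ι} (hx : x ∈ YP b P₀) (hxk : x ∈ CY b k) :
    kp c (g * x * g⁻¹) * (g * kp c x * g⁻¹)⁻¹ ∈ cj g (R k) := by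
  have hgV := b.X_le_NV hg
  have h1 : c⁻¹ * (g⁻¹ * c * g) ∈ YY V R := by
    have h2 := cen_V_X b (inv_mem (hP hc)) (inv_mem hg)
    have e : c⁻¹ * (g⁻¹ * c * g) = c⁻¹ * g⁻¹ * c⁻¹⁻¹ * g⁻¹⁻¹ := by group
    rw [e]; exact h2
  have h3 : kp (g⁻¹ * c * g) x = kp (c⁻¹ * (g⁻¹ * c * g)) x * kp c x := by
    rw [← kmul_left b hP hc (hY h1) hx, mul_inv_cancel_left]
  rw [kp_conj, h3]
  have e : g * (kp (c⁻¹ * (g⁻¹ * c * g)) x * kp c x) * g⁻¹ * (g * kp c x * g⁻¹)⁻¹ =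
      g * kp (c⁻¹ * (g⁻¹ * c * g)) x * g⁻¹ := by group
  rw [e]
  exact conj_mem_cj (hxk.2 _ h1)

theorem z_mem_U {g x : G} (hg : g ∈ WW V (R j)) (hx : x ∈ CY b i) : kp g x ∈ UU V R j := b.WU' hg hx.1

theorem z_mem_YP (hP : P₀ ≤ centralizer (V : Set G)) (hY : YY V R ≤ P₀) {g x : G} (hg : g ∈ WW V (R j))
    (hx : x ∈ YP b P₀) : kp g x ∈ YP b P₀ :=
  mul_mem (YP_conj b hP hY (W_le_X V R j hg) hx) (inv_mem hx)

/-- `g ↦ [g, x]` is additive modulo `R j` -/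
theorem z_add (hP : P₀ ≤ centralizer (V : Set G)) (hY : YY V R ≤ P₀) {g g' c x : G} (hc : c ∈ P₀)
    (hg : g ∈ WW V (R j)) (hg' : g' ∈ WW V (R j)) (hx : x ∈ YP b P₀) (hxi : x ∈ CY b i) :
    kp c (kp (g * g') x) = kp c (kp g x) * kp c (kp g' x) := by
  have h1 := z_mem_U b hg' hxi
  have h2 := z_mem_YP b hP hY hg hx
  have h3 := z_mem_YP b hP hY hg' hx
  have h4 : kp g (kp g' x) ∈ R j := b.WU hg h1
  have h5 := b.R_le j h4
  have e : kp (g * g') x = kp g (kp g' x) * kp g' x * kp g x := by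
    rw [kp_mul_left]
    conv_lhs => rw [show g * kp g' x * g⁻¹ = kp g (kp g' x) * kp g' x by unfold kp; group]
  rw [e, kmul b hc (mul_mem (V_le_YP b hP h5) h3) h2, kmul b hc (V_le_YP b hP h5) h3, kp_V hP hc h5, one_mul]
  exact b.V_comm _ (h3.2 c hc) _ (h2.2 c hc)

/-- `x ↦ [g, x]` is additive modulo `V` -/
theorem z_mul (hP : P₀ ≤ centralizer (V : Set G)) (hY : YY V R ≤ P₀) {g c x y : G} (hc : c ∈ P₀)
    (hg : g ∈ WW V (R j)) (hx : x ∈ YP b P₀) (hy : y ∈ YP b P₀) :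
    kp c (kp g (x * y)) = kp c (kp g x) * kp c (kp g y) := by
  have h2 := z_mem_YP b hP hY hg hx
  have h3 := z_mem_YP b hP hY hg hy
  have h4 : kp x (kp g y) ∈ V := h3.2 x (hY hx.1)
  have e : kp g (x * y) = kp g x * (kp x (kp g y) * kp g y) := by
    rw [kp_mul]
    congr 1
    unfold kp; group
  rw [e, kmul b hc h2 (mul_mem (V_le_YP b hP h4) h3), kmul b hc (V_le_YP b hP h4) h3, kp_V hP hc h4, one_mul]

include b in
theorem z_V (hP : P₀ ≤ centralizer (V : Set G)) {g c x : G} (hc : c ∈ P₀)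
    (hg : g ∈ WW V (R j)) (hx : x ∈ V) : kp c (kp g x) = 1 :=
  kp_V hP hc (mul_mem (conj_mem_of_normalizer (b.W_le_NV j hg) hx) (inv_mem hx))

end basic

section main

variable {P₀ : Subgroup G}

/-- relation (b): `κ(c, [g, x]) = v ρ σ`, `κ(c, x) = v α β` imply `σ = s (α + ρ)` -/
theorem rel_b (b : BT V R) (C : Crd V R i j v w1 w2) (hP : P₀ ≤ centralizer (V : Set G)) (hY : YY V R ≤ P₀)
    {g c x : G} (hg : g ∈ WW V (R j)) (hc : c ∈ P₀) (hx : x ∈ YP b P₀) (hxi : x ∈ CY b i)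
    {s ρ σ α β : F} (hs : ∀ b' c', g * v b' c' * g⁻¹ = v b' (c' + s * b'))
    (h1 : kp c (kp g x) = v ρ σ) (h2 : kp c x = v α β) : σ = s * (α + ρ) := by
  have h3 := rel_a b hP hY (W_le_X V R j hg) hc hx hxi
  have e1 : g * x * g⁻¹ = kp g x * x := by unfold kp; group
  rw [e1, kmul b hc (z_mem_YP b hP hY hg hx) hx, h1, h2, hs, ← C.v_add] at h3
  obtain ⟨r, hr, er⟩ := h3
  obtain ⟨ρ', rfl⟩ := (C.Ri _).1 hr
  change g * v ρ' 0 * g⁻¹ = _ at er
  rw [hs, eq_mul_inv_iff_mul_eq, ← C.v_add] at er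
  obtain ⟨e2, e3⟩ := C.eq_of er
  have e4 : ρ' = ρ := by
    have : ρ' + α = ρ + α := e2
    exact add_right_cancel this
  rw [e4] at e3
  linear_combination -e3

/-- relation (P) -/
theorem rel_P (b : BT V R) (C : Crd V R i j v w1 w2) (hP : P₀ ≤ centralizer (V : Set G)) (hY : YY V R ≤ P₀)
    {g g' c x : G} (hg : g ∈ WW V (R j)) (hg' : g' ∈ WW V (R j)) (hc : c ∈ P₀) (hx : x ∈ YP b P₀)
    (hxi : x ∈ CY b i) {s s' ρ ρ' σ σ' : F} (hs : ∀ b' c', g * v b' c' * g⁻¹ = v b' (c' + s * b'))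
    (hs' : ∀ b' c', g' * v b' c' * g'⁻¹ = v b' (c' + s' * b'))
    (h1 : kp c (kp g x) = v ρ σ) (h1' : kp c (kp g' x) = v ρ' σ') : s * ρ' + s' * ρ = 0 := by
  obtain ⟨α, β, h2⟩ := (C.v_mem _).1 (hx.2 c hc)
  have h3 := rel_b b C hP hY hg hc hx hxi hs h1 h2.symm
  have h3' := rel_b b C hP hY hg' hc hx hxi hs' h1' h2.symm
  have h4 : kp c (kp (g * g') x) = v (ρ + ρ') (σ + σ') := by
    rw [z_add b hP hY hc hg hg' hx hxi, h1, h1', C.v_add]
  have hs2 : ∀ b' c', (g * g') * v b' c' * (g * g')⁻¹ = v b' (c' + (s' + s) * b') := by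
    intro b' c'
    have e : (g * g') * v b' c' * (g * g')⁻¹ = g * (g' * v b' c' * g'⁻¹) * g⁻¹ := by group
    rw [e, hs', hs]
    congr 1
    ring
  have h5 := rel_b b C hP hY (mul_mem hg hg') hc hx hxi hs2 h4 h2.symm
  linear_combination -h5 + h3 + h3'

/-- `ρ` has weight 3 -/
theorem rel_c (b : BT V R) (C : Crd V R i j v w1 w2) (τ : TorD V R i j v t)
    (hP : P₀ ≤ centralizer (V : Set G)) (hY : YY V R ≤ P₀)
    {g c x : G} (hg : g ∈ WW V (R j)) (hc : c ∈ P₀) (hx : x ∈ YP b P₀)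
    (hxi : x ∈ CY b i) {a s ρ σ ρ' σ' : F} (ha : a ≠ 0) (hs0 : s ≠ 0) (hta : t a * c = c * t a)
    (hs : ∀ b' c', g * v b' c' * g⁻¹ = v b' (c' + s * b'))
    (h1 : kp c (kp g x) = v ρ σ) (h2 : kp c (kp g (t a * x * (t a)⁻¹)) = v ρ' σ') : ρ' = a ^ 3 * ρ := by
  have htX := τ.memX a ha
  have hx' : t a * x * (t a)⁻¹ ∈ YP b P₀ := YP_conj b hP hY htX hx
  have hxi' : t a * x * (t a)⁻¹ ∈ CY b i := CY_conj b (b.X_le_NV htX) (cj_eq_self_iff.2 (τ.normR ha)) hxi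
  have hg' : t a * g * (t a)⁻¹ ∈ WW V (R j) :=
    conj_mem_of_normalizer (normalizer_le_WW V (R j) (τ.normR' ha)) hg
  have h3 : kp c (kp (t a * g * (t a)⁻¹) (t a * x * (t a)⁻¹)) = v (a * ρ) (a⁻¹ * σ) := by
    rw [kp_conj']
    have e : kp c (t a * kp g x * (t a)⁻¹) = t a * kp c (kp g x) * (t a)⁻¹ := by
      rw [kp_conj]
      congr 3
      rw [mul_assoc, ← hta, inv_mul_cancel_left]
    rw [e, h1, τ.act a _ _ ha]
  have hs' : ∀ b' c', (t a * g * (t a)⁻¹) * v b' c' * (t a * g * (t a)⁻¹)⁻¹ =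
      v b' (c' + (a⁻¹ * a⁻¹ * s) * b') := by
    intro b' c'
    have e : (t a * g * (t a)⁻¹) * v b' c' * (t a * g * (t a)⁻¹)⁻¹ =
        t a * (g * (t a⁻¹ * v b' c' * (t a⁻¹)⁻¹) * g⁻¹) * (t a)⁻¹ := by rw [τ.inv ha]; group
    rw [e, τ.act _ _ _ (inv_ne_zero ha), hs, τ.act _ _ _ ha, inv_inv]
    congr 1
    · rw [← mul_assoc, mul_inv_cancel₀ ha, one_mul]
    · rw [mul_add, ← mul_assoc, inv_mul_cancel₀ ha, one_mul]; ring
  have h4 := rel_P b C hP hY hg hg' hc hx' hxi' hs hs' h2 h3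
  -- `s (a ρ) + a⁻² s ρ' = 0`
  have h5 : s * (a * a * (a * ρ) + ρ') = 0 := by
    have e : s * (a * a * (a * ρ) + ρ') = a * a * (s * (a * ρ) + (a⁻¹ * a⁻¹ * s) * ρ') := by
      field_simp
    rw [e, h4, mul_zero]
  have h6 := (mul_eq_zero.1 h5).resolve_left hs0
  have h7 := TorD.two b τ (a * a * (a * ρ))
  linear_combination h6 - h7

/-- (c): `κ(c, [g, x]) ∈ R j` if `c` centralises `t a`, `t (a + 1)` -/
theorem rel_d (b : BTC V R) (C : Crd V R i j v w1 w2) (τ : TorD V R i j v t)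
    (hP : P₀ ≤ centralizer (V : Set G)) (hY : YY V R ≤ P₀)
    {g c x : G} (hg : g ∈ WW V (R j)) (hc : c ∈ P₀) (hx : x ∈ YP b.toBT P₀)
    (hxi : x ∈ CY b.toBT i) {a : F} (ha : a ≠ 0) (ha1 : a + 1 ≠ 0)
    (hta : t a * c = c * t a) (hta' : t (a + 1) * c = c * t (a + 1)) : kp c (kp g x) ∈ R j := by
  obtain ⟨s, hs⟩ := C.f2 g hg
  by_cases hs0 : s = 0
  · -- `g ∈ U j`
    have h1 : kp g x ∈ V := b.R_le i (hxi.2 g (UU_le_YY j (mem_inf.2 ⟨hg, C.mem_cen fun b' c' => by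
      rw [hs, hs0, zero_mul, add_zero]⟩)))
    rw [kp_V hP hc h1]
    exact one_mem _
  obtain ⟨ρ, σ, h1⟩ := (C.v_mem _).1 ((z_mem_YP b.toBT hP hY hg hx).2 c hc)
  have hX1 := YP_conj b.toBT hP hY (τ.memX a ha) hx
  have hX2 := YP_conj b.toBT hP hY (τ.memX _ ha1) hx
  have hC1 := CY_conj b.toBT (b.X_le_NV (τ.memX a ha)) (cj_eq_self_iff.2 (τ.normR ha)) hxi
  have hC2 := CY_conj b.toBT (b.X_le_NV (τ.memX _ ha1)) (cj_eq_self_iff.2 (τ.normR ha1)) hxi
  obtain ⟨ρ₁, σ₁, h2⟩ := (C.v_mem _).1 ((z_mem_YP b.toBT hP hY hg hX1).2 c hc)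
  obtain ⟨ρ₂, σ₂, h3⟩ := (C.v_mem _).1 ((z_mem_YP b.toBT hP hY hg hX2).2 c hc)
  have e1 := rel_c b.toBT C τ hP hY hg hc hx hxi ha hs0 hta hs h1.symm h2.symm
  have e2 := rel_c b.toBT C τ hP hY hg hc hx hxi ha1 hs0 hta' hs h1.symm h3.symm
  -- `t (a + 1) x = d (t a x) x`, `d ∈ V`
  set x₁ := t a * x * (t a)⁻¹ with hx₁
  set x₂ := t (a + 1) * x * (t (a + 1))⁻¹ with hx₂
  have h4 := τ.wU a 1 ha one_ne_zero ha1 x hxi.1
  rw [τ.one, inv_one, one_mul, mul_one, ← hx₁, ← hx₂] at h4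
  have h5 : x₂ * (x₁ * x)⁻¹ ∈ CY b.toBT i := mul_mem hC2 (inv_mem (mul_mem hC1 hxi))
  have h6 : x₂ * (x₁ * x)⁻¹ ∈ V := by
    refine b.cen_DU (i := j) h4 fun u hu => ?_
    have h7 := h5.2 u (UU_le_YY j hu)
    have h8 := b.DU h4 hu
    have h9 : kp u (x₂ * (x₁ * x)⁻¹) ∈ R j := by
      have e : kp u (x₂ * (x₁ * x)⁻¹) =
          (x₂ * (x₁ * x)⁻¹ * u * (x₂ * (x₁ * x)⁻¹)⁻¹ * u⁻¹)⁻¹ := by unfold kp; group
      rw [e]; exact inv_mem h8
    have h10 := b.eq_one C.ne h7 h9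
    unfold kp at h10
    rw [mul_inv_eq_one, mul_inv_eq_iff_eq_mul] at h10
    exact h10.symm
  have h7 : kp c (kp g x₂) = v (ρ₁ + ρ) (σ₁ + σ) := by
    have e : x₂ = x₂ * (x₁ * x)⁻¹ * (x₁ * x) := by group
    rw [e, z_mul b.toBT hP hY hc hg (V_le_YP b.toBT hP h6) (mul_mem hX1 hx), z_V b.toBT hP hc hg h6, one_mul,
      z_mul b.toBT hP hY hc hg hX1 hx, ← h1, ← h2, ← C.v_add]
  have e3 := (C.eq_of (h3.trans h7)).1
  have h8 : a * (a + 1) * ρ = 0 := by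
    have h9 := TorD.two b.toBT τ ((a * (a + 1)) * ρ)
    rw [e1, e2] at e3
    linear_combination e3 - h9
  have h9 : ρ = 0 := (mul_eq_zero.1 h8).resolve_left (mul_ne_zero ha ha1)
  rw [← h1, h9]
  exact (C.Rj _).2 ⟨_, rfl⟩

/-- (d): `c` centralises `t a` ⟹ `[c, d] = 1` for `d ∈ D`, `[c, d] ∈ V` -/
theorem rel_D (b : BT V R) (C : Crd V R i j v w1 w2) (τ : TorD V R i j v t)
    (hP : P₀ ≤ centralizer (V : Set G)) {c d : G} (hc : c ∈ P₀) (hd : d ∈ DD V R) (hdc : kp c d ∈ V)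
    {a : F} (ha : a ≠ 0) (ha1 : a ≠ 1) (hta : t a * c = c * t a) : kp c d = 1 := by
  obtain ⟨β, γ, h1⟩ := (C.v_mem _).1 (b.XD (τ.memX a ha) hd)
  have ha2 : a⁻¹ - 1 ≠ 0 := sub_ne_zero.2 fun h => ha1 (by rw [← inv_inv a, h, inv_one])
  have ha3 : a - 1 ≠ 0 := sub_ne_zero.2 ha1
  -- `w d` commutes with `t a`
  let w := v (-(a - 1)⁻¹ * β) (-(a⁻¹ - 1)⁻¹ * γ)
  have hw : w ∈ V := (C.v_mem _).2 ⟨_, _, rfl⟩
  have h2 : t a * w * (t a)⁻¹ * v β γ = w := by
    change t a * v _ _ * (t a)⁻¹ * v β γ = v _ _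
    rw [τ.act a _ _ ha, ← C.v_add]
    congr 1
    · field_simp; ring
    · field_simp; ring
  have h3 : t a * (w * d) * (t a)⁻¹ = w * d := by
    have e : t a * (w * d) * (t a)⁻¹ = t a * w * (t a)⁻¹ * (t a * d * (t a)⁻¹ * d⁻¹) * d := by group
    rw [e, ← h1, h2]
  have h4 : kp c (w * d) = kp c d := by
    rw [kp_mul, kp_V hP hc hw, one_mul, b.V_comm w hw _ hdc, mul_inv_cancel_right]
  rw [← h4] at hdc ⊢
  refine τ.fpf_V ha ha1 hdc ?_
  have e : t a * kp c (w * d) * (t a)⁻¹ = kp (t a * c * (t a)⁻¹) (t a * (w * d) * (t a)⁻¹) := by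
    rw [kp_conj']
  rw [e, h3, hta, mul_inv_cancel_right]

/-- `n x n⁻¹ ≡ [w2 1, x]` modulo `D` -/
theorem nn_inv (b : BT V R) (C : Crd V R i j v w1 w2) [CharP F 2] {x : G} (hx : x ∈ UU V R i) :
    nn w1 w2 1 * x * (nn w1 w2 1)⁻¹ * (kp (w2 (1 : F)⁻¹) x)⁻¹ ∈ DD V R := by
  have hnX : nn w1 w2 1 ∈ XX V R := C.to_coord.nn_mem_X b 1
  have hxY := UU_le_YY i hx
  set z := kp (w2 (1 : F)⁻¹) x with hz
  have hzU : z ∈ UU V R j := b.WU' (C.W2 _) hx
  have h1 : nn w1 w2 1 * x * (nn w1 w2 1)⁻¹ ∈ UU V R j := by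
    rw [← b.cj_UU (b.X_le_NV hnX) (C.to_coord.nn_R1 b one_ne_zero)]
    exact conj_mem_cj hx
  have hr : kp (w1 1) x ∈ R i := b.WU (C.W1 1) hx
  have hr2 : w1 1 * (w2 (1 : F)⁻¹ * kp (w1 1) x * (w2 (1 : F)⁻¹)⁻¹) * (w1 1)⁻¹ ∈ V :=
    conj_mem_of_normalizer (b.W_le_NV i (C.W1 1)) (conj_mem_of_normalizer (b.W_le_NV j (C.W2 _)) (b.R_le i hr))
  have h2 : kp (w1 1) z ∈ UU V R i := b.WU' (C.W1 1) hzU
  have h3 : w1 1 * x * (w1 1)⁻¹ ∈ UU V R i := by
    have e : w1 1 * x * (w1 1)⁻¹ = kp (w1 1) x * x := by unfold kp; group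
    rw [e]; exact mul_mem (b.R_le_U i hr) hx
  have h4 := b.Y_comm (UU_le_YY j hzU) (UU_le_YY i h3)
  have e : nn w1 w2 1 * x * (nn w1 w2 1)⁻¹ * z⁻¹ =
      (w1 1 * (w2 (1 : F)⁻¹ * kp (w1 1) x * (w2 (1 : F)⁻¹)⁻¹) * (w1 1)⁻¹) * kp (w1 1) z *
        (z * (w1 1 * x * (w1 1)⁻¹) * z⁻¹ * (w1 1 * x * (w1 1)⁻¹)⁻¹) * (w1 1 * x * (w1 1)⁻¹) := by
    rw [hz]; unfold kp nn; group
  rw [← b.UU_inf C.ne]
  refine mem_inf.2 ⟨?_, mul_mem h1 (inv_mem hzU)⟩
  rw [e]
  exact mul_mem (mul_mem (mul_mem (b.D_le_U i (V_le_D V R hr2)) h2) (b.D_le_U i h4)) h3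

/-- `[P₀, x] ≤ R i` -/
theorem kp_mem_R [Finite G] [CharP F 2] (b : BTC V R) (C : Crd V R i j v w1 w2) (τ : TorD V R i j v t)
    (hP : P₀ ≤ centralizer (V : Set G)) (hP2 : IsPGroup 2 P₀) (hY : YY V R ≤ P₀) {a : F} (ha : a ≠ 0)
    (ha1 : a ≠ 1) {c x : G} (hc : c ∈ P₀) (hx : x ∈ YP b.toBT P₀) (hxi : x ∈ CY b.toBT i) :
    kp c x ∈ R i := by
  have haa : a + 1 ≠ 0 := by
    intro h
    apply ha1
    have h1 := TorD.two b.toBT τ (1 : F)
    exact add_right_cancel (h.trans h1.symm)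
  have hnX : nn w1 w2 1 ∈ XX V R := C.to_coord.nn_mem_X b.toBT 1
  have hn : cj (nn w1 w2 1) (R i) = R j := C.to_coord.nn_R1 b.toBT one_ne_zero
  set n := nn w1 w2 1 with hndef
  have hx' : n * x * n⁻¹ ∈ YP b.toBT P₀ := YP_conj b.toBT hP hY hnX hx
  have hxj : n * x * n⁻¹ ∈ CY b.toBT j := CY_conj b.toBT (b.X_le_NV hnX) hn hxi
  have hc' : n * c * n⁻¹ ∈ P₀ := conj_mem_of_normalizer (X_le_N b.toBT hP hY hnX) hc
  obtain ⟨c₀, hc₀, hcom⟩ := exists_cen_coset (T := τ.grp) (Y := YY V R)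
    (by
      rintro _ ⟨a, ha, rfl⟩ _ ⟨a', ha', rfl⟩
      exact τ.comm ha ha')
    (by
      rintro _ ⟨a, ha, rfl⟩
      exact b.NV_le_NY (b.X_le_NV (τ.memX a ha)))
    (by
      rintro _ ⟨a, ha, rfl⟩
      exact τ.odd a ha) (hP2.to_le hY) (n * c * n⁻¹)
    (by
      rintro _ ⟨a, ha, rfl⟩
      have h1 := cen_V_X b.toBT (inv_mem (hP hc')) (τ.memX a ha)
      rw [inv_inv] at h1
      have e : (n * c * n⁻¹)⁻¹ * (t a * (n * c * n⁻¹) * (t a)⁻¹) = (n * c * n⁻¹)⁻¹ * t a * (n * c * n⁻¹) * (t a)⁻¹ := by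
        group
      rw [e]; exact h1)
  have hc₀P : c₀ ∈ P₀ := by
    have h1 := mul_mem hc' (hY hc₀)
    rwa [mul_inv_cancel_left] at h1
  -- `c' = c₀ y`
  have h1 : kp (n * c * n⁻¹) (n * x * n⁻¹) ∈ R j := by
    have e : n * c * n⁻¹ = c₀ * ((n * c * n⁻¹)⁻¹ * c₀)⁻¹ := by group
    rw [e, kmul_left b.toBT hP hc₀P (hY (inv_mem hc₀)) hx']
    refine mul_mem (hxj.2 _ (inv_mem hc₀)) ?_
    have h2 := nn_inv b.toBT C hxi.1
    rw [← hndef] at h2
    have hz := z_mem_YP b.toBT hP hY (C.W2 (1 : F)⁻¹) hx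
    have hd : n * x * n⁻¹ * (kp (w2 (1 : F)⁻¹) x)⁻¹ ∈ YP b.toBT P₀ := mul_mem hx' (inv_mem hz)
    have e2 : n * x * n⁻¹ = n * x * n⁻¹ * (kp (w2 (1 : F)⁻¹) x)⁻¹ * kp (w2 (1 : F)⁻¹) x := by group
    rw [e2, kmul b.toBT hc₀P hd hz,
      rel_D b.toBT C τ hP hc₀P h2 (hd.2 c₀ hc₀P) ha ha1 (hcom _ ⟨a, ha, rfl⟩), one_mul]
    exact rel_d b C τ hP hY (C.W2 _) hc₀P hx hxi ha haa (hcom _ ⟨a, ha, rfl⟩) (hcom _ ⟨a + 1, haa, rfl⟩)
  rw [kp_conj', ← hn] at h1
  have h2 := mem_cj.1 h1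
  rwa [show n⁻¹ * (n * kp c x * n⁻¹) * n = kp c x by group] at h2

/-- `CY i = V` -/
theorem CY_le_V [Finite G] [CharP F 2] (b : BTC V R) (C : Crd V R i j v w1 w2) (τ : TorD V R i j v t)
    {a : F} (ha : a ≠ 0) (ha1 : a ≠ 1) {P : Subgroup G} (hP2 : IsPGroup 2 P)
    (hPV : P ≤ normalizer (V : Set G)) (hPR : P ≤ centralizer (R i : Set G)) (hW : WW V (R i) ≤ P)
    (hY : YY V R ≤ P)
    (hcen : ∀ x ∈ WW V (R i), (∀ s ∈ P, s * x * s⁻¹ * x⁻¹ ∈ R i) → x ∈ V) : CY b.toBT i ≤ V := by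
  by_contra hne
  have hPN : P ≤ normalizer (R i : Set G) := hPR.trans (centralizer_le_normalizer _)
  have h1 : P ≤ normalizer (CY b.toBT i : Set G) := by
    refine le_normalizer_of fun g hg x hx => ?_
    exact CY_conj b.toBT (hPV hg) (cj_eq_self_iff.2 (hPN hg)) hx
  obtain ⟨x, hx, hxV, hxP⟩ := Cz.exists_fixed_mod hP2 (B := CY b.toBT i) (fun x hx => hW (UU_le_WW i hx.1)) h1 hPV hne
  apply hxV
  have hP₀ : P ⊓ centralizer (V : Set G) ≤ centralizer (V : Set G) := inf_le_right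
  have hY₀ : YY V R ≤ P ⊓ centralizer (V : Set G) := le_inf hY YY_le_cen
  have hxY : x ∈ YP b.toBT (P ⊓ centralizer (V : Set G)) := ⟨UU_le_YY i hx.1, fun c hc => hxP c hc.1⟩
  refine hcen x (UU_le_WW i hx.1) fun s hs => ?_
  obtain ⟨w, hw, hws⟩ := cen_fact b.toBT C hP2 hPV hPR hW hs
  have h2 : kp (w * s) x ∈ R i := kp_mem_R b C τ hP₀ (hP2.to_le inf_le_left) hY₀ ha ha1
    (mem_inf.2 ⟨mul_mem (hW hw) hs, hws⟩) hxY hx
  have e : s * x * s⁻¹ * x⁻¹ = w⁻¹ * kp (w * s) x * w⁻¹⁻¹ * (w⁻¹ * x * w⁻¹⁻¹ * x⁻¹) := by unfold kp; group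
  rw [e]
  exact mul_mem (conj_mem_of_normalizer (b.W_le_N i (inv_mem hw)) h2) (b.WU (inv_mem hw) hx.1)

/-- **LEMMA CA**: `C_M(A) = e` -/
theorem cen_A [Finite G] [CharP F 2] (b : BTC V R) (C : Crd V R i j v w1 w2) (τ : TorD V R i j v t)
    {a : F} (ha : a ≠ 0) (ha1 : a ≠ 1) (S : Sylow 2 G) (hSV : (S : Subgroup G) ≤ normalizer (V : Set G))
    (hSR : (S : Subgroup G) ≤ normalizer (R i : Set G))
    (hcen : ∀ x ∈ WW V (R i), (∀ s ∈ (S : Subgroup G), s ∈ centralizer (R i : Set G) →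
      s * x * s⁻¹ * x⁻¹ ∈ R i) → x ∈ V) {x : G} (hx : x ∈ WW V (R i))
    (h : ∀ u ∈ UU V R j, u * x * u⁻¹ * x⁻¹ ∈ R i) : x ∈ V := by
  have hle : ∀ N T : Subgroup G, IsPGroup 2 T → (S : Subgroup G) ≤ N → N ≤ normalizer (T : Set G) →
      T ≤ N → T ≤ (S : Subgroup G) := by
    intro N T hT hSN hN _
    have h3 : IsPGroup 2 ((S : Subgroup G) ⊔ T : Subgroup G) :=
      S.isPGroup'.to_sup_of_normal_right' hT (hSN.trans hN)
    have h4 := S.is_maximal' h3 le_sup_left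
    exact le_sup_right.trans_eq h4
  have hWS : WW V (R i) ≤ (S : Subgroup G) :=
    hle _ _ (b.W_isPGroup i) hSR (normalizer_le_WW V (R i)) (b.W_le_N i)
  have hY2 : IsPGroup 2 (YY V R) := by
    rw [b.Y_eq C.ne]
    exact (b.U_isPGroup i).to_sup_of_normal_right' (b.U_isPGroup j) ((UU_le_cen i).trans (b.cen_le_NU j))
  have hYS : YY V R ≤ (S : Subgroup G) := hle _ _ hY2 hSV b.NV_le_NY Y_le_NV
  have hxU : x ∈ UU V R i := by
    by_contra hxU
    refine Cz.not_UU_le b S C.ne hSV hSR fun u hu => ?_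
    refine b.inj C.ne.symm hx hxU hu ?_
    have e : x * u * x⁻¹ * u⁻¹ = (u * x * u⁻¹ * x⁻¹)⁻¹ := by group
    rw [e]
    exact inv_mem (V_le_D V R (b.R_le i (h u hu)))
  refine CY_le_V b C τ ha ha1 (P := (S : Subgroup G) ⊓ centralizer (R i : Set G)) (S.isPGroup'.to_le inf_le_left)
    (inf_le_left.trans hSV) inf_le_right (le_inf hWS fun w hw => ?_) (le_inf hYS fun y hy => ?_)
    (fun x hx hs => hcen x hx fun s h1 h2 => hs s (mem_inf.2 ⟨h1, h2⟩)) ⟨hxU, fun y hy => ?_⟩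
  · rw [mem_centralizer_iff]
    exact fun r hr => (b.QR i w (b.W_le_Q i hw) r hr).symm
  · exact centralizer_le (b.R_le i) (YY_le_cen hy)
  · let T : Subgroup G :=
      { carrier := {y | y ∈ centralizer (V : Set G) ∧ kp y x ∈ R i}
        one_mem' := ⟨one_mem _, by
          have e : kp 1 x = 1 := by unfold kp; group
          rw [e]; exact one_mem _⟩
        mul_mem' := by
          rintro c d ⟨hc, hc'⟩ ⟨hd, hd'⟩
          refine ⟨mul_mem hc hd, ?_⟩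
          rw [kp_mul_left]
          exact mul_mem (conj_mem_of_normalizer (b.cen_le_N i hc) hd') hc'
        inv_mem' := by
          rintro c ⟨hc, hc'⟩
          refine ⟨inv_mem hc, ?_⟩
          have e : kp c⁻¹ x = c⁻¹ * (kp c x)⁻¹ * c := by unfold kp; group
          rw [e]
          exact conj_inv_mem_of_normalizer (b.cen_le_N i hc) (inv_mem hc') }
    have hT : YY V R ≤ T := by
      rw [b.Y_eq C.ne]
      refine sup_le (fun u hu => ⟨UU_le_cen i hu, ?_⟩) fun u hu => ⟨UU_le_cen j hu, h u hu⟩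
      exact b.WU (UU_le_WW i hu) hxU
    exact (hT hy).2

end main

/-! ### consequences -/

section norm

/-- `g ∈ N(R i)` normalising a group `E ≥ U j` with `[E, V] ≤ R i` normalises `V` -/
theorem norm_of [Finite G] (b : BT V R)
    (hA : ∀ x ∈ WW V (R i), (∀ u ∈ UU V R j, u * x * u⁻¹ * x⁻¹ ∈ R i) → x ∈ V) {E : Subgroup G}
    (hUE : UU V R j ≤ E) (hE : ∀ y ∈ E, ∀ x ∈ V, y * x * y⁻¹ * x⁻¹ ∈ R i) {g : G}
    (hg : g ∈ normalizer (R i : Set G)) (hgE : g ∈ normalizer (E : Set G)) : g ∈ normalizer (V : Set G) := by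
  have _ := b
  refine mem_normalizer_of_conj fun x hx => ?_
  refine hA _ (conj_mem_of_normalizer (normalizer_le_WW V (R i) hg) (V_le_WW V (R i) hx)) fun u hu => ?_
  have h1 := hE _ (conj_inv_mem_of_normalizer hgE (hUE hu)) x hx
  have h2 := conj_mem_of_normalizer hg h1
  have e : g * (g⁻¹ * u * g * x * (g⁻¹ * u * g)⁻¹ * x⁻¹) * g⁻¹ = u * (g * x * g⁻¹) * u⁻¹ * (g * x * g⁻¹)⁻¹ := by
    group
  rwa [e] at h2

/-- `N(R i) ∩ N(W i U j) ≤ N(V)` -/
theorem norm_of_normA [Finite G] (b : BT V R)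
    (hA : ∀ x ∈ WW V (R i), (∀ u ∈ UU V R j, u * x * u⁻¹ * x⁻¹ ∈ R i) → x ∈ V) {g : G}
    (hg : g ∈ normalizer (R i : Set G)) (hgE : g ∈ normalizer ((WW V (R i) ⊔ UU V R j : Subgroup G) : Set G)) :
    g ∈ normalizer (V : Set G) := by
  refine norm_of b hA (E := WW V (R i) ⊔ UU V R j) le_sup_right ?_ hg hgE
  let T : Subgroup G :=
    { carrier := {y | y ∈ normalizer (R i : Set G) ∧ ∀ x ∈ V, kp y x ∈ R i}
      one_mem' := ⟨one_mem _, fun x _ => by
        have e : kp 1 x = 1 := by unfold kp; group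
        rw [e]; exact one_mem _⟩
      mul_mem' := by
        rintro c d ⟨hc, hc'⟩ ⟨hd, hd'⟩
        refine ⟨mul_mem hc hd, fun x hx => ?_⟩
        rw [kp_mul_left]
        exact mul_mem (conj_mem_of_normalizer hc (hd' x hx)) (hc' x hx)
      inv_mem' := by
        rintro c ⟨hc, hc'⟩
        refine ⟨inv_mem hc, fun x hx => ?_⟩
        have e : kp c⁻¹ x = c⁻¹ * (kp c x)⁻¹ * c := by unfold kp; group
        rw [e]
        exact conj_inv_mem_of_normalizer hc (inv_mem (hc' x hx)) }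
  have hT : WW V (R i) ⊔ UU V R j ≤ T := by
    refine sup_le (fun w hw => ⟨b.W_le_N i hw, fun x hx => b.WW_comm i hw (V_le_WW V (R i) hx)⟩)
      fun u hu => ⟨b.cen_le_N i (UU_le_cen j hu), fun x hx => ?_⟩
    have e : kp u x = 1 := by
      unfold kp
      rw [← mem_centralizer_iff.1 (UU_le_cen j hu) x hx]; group
    rw [e]; exact one_mem _
  exact fun y hy x hx => (hT hy).2 x hx

end norm

end Cfsg.Agent.Omega.IIa4.CenA

end

section


/-!
# II.a, `q ≥ 4`: reduction of `GZero` to `HasBN (X ⊔ E)`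

`Sit.cen_A`: LEMMA CA in the situation `Sit`;  `Sit.frattini`: `N(R i) = E (N(R i) ∩ N(V))` for every `E` normal
in `N(R i)` with `U j ≤ E ≤ C(R i)`;  `Sit.gZero_of`.
-/

set_option autoImplicit false
set_option linter.unusedSectionVars false

namespace Cfsg.Agent.Omega.IIa4

open Subgroup Cfsg Cfsg.Agent.ZN Cfsg.Agent.Omega.NatPair Cfsg.Agent.Omega.BTwo
open Cfsg.Agent.Omega.Frame Cfsg.Agent.Omega.FrameFF

universe u

namespace Sit

variable {G : Type u} [Group G] [Finite G] {S : Sylow 2 G} {P : Subgroup G} {g : G} {F : Type} [Field F]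
  [Finite F] [CharP F 2] {M : NatMod F (zl (S : Subgroup G) P)} (h : Sit S P g M)
include h

/-- a Sylow 2-subgroup in `N(V) ∩ N(R i)` -/
theorem exists_sylow (i : Pt M) : ∃ S₁ : Sylow 2 G, (S₁ : Subgroup G) ≤ normalizer (zl (S : Subgroup G) P : Set G) ∧
    (S₁ : Subgroup G) ≤ normalizer (pt M i : Set G) := by
  obtain ⟨_, w, hw, rfl⟩ := i
  exact M.exists_sylow S h.le_N hw

theorem W_le (i : Pt M) (S₁ : Sylow 2 G) (hSR : (S₁ : Subgroup G) ≤ normalizer (pt M i : Set G)) :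
    WW (zl (S : Subgroup G) P) (pt M i) ≤ (S₁ : Subgroup G) := by
  have h3 := S₁.isPGroup'.to_sup_of_normal_right' (h.bt.W_isPGroup i)
    (hSR.trans (normalizer_le_WW (zl (S : Subgroup G) P) (pt M i)))
  exact le_sup_right.trans_eq (S₁.is_maximal' h3 le_sup_left)

theorem Y_le (S₁ : Sylow 2 G) (hSV : (S₁ : Subgroup G) ≤ normalizer (zl (S : Subgroup G) P : Set G)) :
    YY (zl (S : Subgroup G) P) (pt M) ≤ (S₁ : Subgroup G) := by
  obtain ⟨i, j, hij⟩ := h.bt.exists_pair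
  have hY2 : IsPGroup 2 (YY (zl (S : Subgroup G) P) (pt M)) := by
    rw [h.bt.Y_eq hij]
    exact (h.bt.U_isPGroup i).to_sup_of_normal_right' (h.bt.U_isPGroup j)
      ((UU_le_cen i).trans (h.bt.cen_le_NU j))
  have h3 := S₁.isPGroup'.to_sup_of_normal_right' hY2 (hSV.trans h.bt.NV_le_NY)
  exact le_sup_right.trans_eq (S₁.is_maximal' h3 le_sup_left)

/-- **LEMMA CA**: `C_{W/R}(U j) = V/R` -/
theorem cen_A (hcen : CenSE (zl (S : Subgroup G) P) (pt M)) {i j : Pt M} (hij : i ≠ j) :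
    ∀ x ∈ WW (zl (S : Subgroup G) P) (pt M i), (∀ u ∈ UU (zl (S : Subgroup G) P) (pt M) j,
      u * x * u⁻¹ * x⁻¹ ∈ pt M i) → x ∈ zl (S : Subgroup G) P := by
  intro x hx hu
  obtain ⟨S₁, hSV, hSR⟩ := h.exists_sylow i
  obtain ⟨v, w1, w2, c⟩ := h.exists_coord hij
  obtain ⟨t, τ⟩ := h.exists_torD c
  obtain ⟨a, ha, ha1⟩ := h.exists_ne
  exact CenA.cen_A h.btc (Lie.Crd.of_coord c) τ ha ha1 S₁ hSV hSR (hcen i S₁ hSV hSR) hx hu

/-- `N(R i) ∩ N(W i U j) ≤ N(V)` -/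
theorem norm_of_normA (hcen : CenSE (zl (S : Subgroup G) P) (pt M)) {i j : Pt M} (hij : i ≠ j) {g : G}
    (hg : g ∈ normalizer (pt M i : Set G))
    (hgE : g ∈ normalizer ((WW (zl (S : Subgroup G) P) (pt M i) ⊔ UU (zl (S : Subgroup G) P) (pt M) j :
      Subgroup G) : Set G)) : g ∈ normalizer (zl (S : Subgroup G) P : Set G) :=
  CenA.norm_of_normA h.bt (h.cen_A hcen hij) hg hgE

/-- `[s, x] ∈ R i` for `x ∈ V` and `s` in a 2-subgroup of `C(R i) ∩ N(V)` -/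
theorem comm_V {i : Pt M} (S₁ : Sylow 2 G) (hSV : (S₁ : Subgroup G) ≤ normalizer (zl (S : Subgroup G) P : Set G))
    (hSR : (S₁ : Subgroup G) ≤ normalizer (pt M i : Set G)) {s x : G} (hs : s ∈ (S₁ : Subgroup G))
    (hsR : s ∈ centralizer (pt M i : Set G)) (hx : x ∈ zl (S : Subgroup G) P) : s * x * s⁻¹ * x⁻¹ ∈ pt M i := by
  obtain ⟨j, hj, -⟩ := h.bt.third i i
  obtain ⟨v, w1, w2, c⟩ := h.exists_coord (Ne.symm hj)
  obtain ⟨w, hw, hws⟩ := Lie.cen_fact h.bt (Lie.Crd.of_coord c)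
    (P := (S₁ : Subgroup G) ⊓ centralizer (pt M i : Set G)) (S₁.isPGroup'.to_le inf_le_left)
    (inf_le_left.trans hSV) inf_le_right (le_inf (h.W_le i S₁ hSR) fun w hw => by
      rw [mem_centralizer_iff]
      exact fun r hr => (h.bt.QR i w (h.bt.W_le_Q i hw) r hr).symm) (mem_inf.2 ⟨hs, hsR⟩)
  have e : s * x * s⁻¹ * x⁻¹ = w⁻¹ * ((w * s) * x * (w * s)⁻¹) * w⁻¹⁻¹ * x⁻¹ := by group
  rw [e, ← mem_centralizer_iff.1 hws x hx, mul_inv_cancel_right]
  exact h.bt.WW_comm i (inv_mem hw) (V_le_WW _ _ hx)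

/-- **Frattini**: `N(R i) = E (N(R i) ∩ N(V))` -/
theorem frattini (hcen : CenSE (zl (S : Subgroup G) P) (pt M)) {i j : Pt M} (hij : i ≠ j) {E : Subgroup G}
    (hE : normalizer (pt M i : Set G) ≤ normalizer (E : Set G)) (hUE : UU (zl (S : Subgroup G) P) (pt M) j ≤ E)
    (hER : E ≤ centralizer (pt M i : Set G)) {g : G} (hg : g ∈ normalizer (pt M i : Set G)) :
    ∃ e ∈ E, e * g ∈ normalizer (zl (S : Subgroup G) P : Set G) := by
  obtain ⟨S₁, hSV, hSR⟩ := h.exists_sylow i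
  have hEN : E ≤ normalizer (pt M i : Set G) := hER.trans (centralizer_le_normalizer _)
  have h1 := ((StdEven.Syl.isSyl_top_of_sylow S₁).mono hSR le_top).inf_normal hEN hE
  obtain ⟨n, hn, hng⟩ := h1.frattini (hE hg)
  refine ⟨n, hn, CenA.norm_of h.bt (h.cen_A hcen hij) (E := (S₁ : Subgroup G) ⊓ E)
    (le_inf ((UU_le_YY j).trans (h.Y_le S₁ hSV)) hUE) ?_ (mul_mem (hEN hn) hg) hng⟩
  exact fun y hy x hx => h.comm_V S₁ hSV hSR hy.1 (hER hy.2) hx

/-- **`GZero` from a BN-pair of `X E`** -/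
theorem gZero_of (hcen : CenSE (zl (S : Subgroup G) P) (pt M)) {i j : Pt M} (hij : i ≠ j) {E : Subgroup G}
    (hE : normalizer (pt M i : Set G) ≤ normalizer (E : Set G)) (hUE : UU (zl (S : Subgroup G) P) (pt M) j ≤ E)
    (hER : E ≤ centralizer (pt M i : Set G))
    (hBN : HasBN ↥(XX (zl (S : Subgroup G) P) (pt M) ⊔ E)) : GZero (zl (S : Subgroup G) P) (pt M) := by
  have key : ∀ g ∈ normalizer (pt M i : Set G), g ∈ normalizer (zl (S : Subgroup G) P : Set G) →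
      g ∈ normalizer ((XX (zl (S : Subgroup G) P) (pt M) ⊔ E : Subgroup G) : Set G) := by
    intro g h1 h2
    rw [← BTwo.cj_eq_self_iff, cj_sup, BTwo.cj_eq_self_iff.2 (h.bt.NV_le_NX h2), BTwo.cj_eq_self_iff.2 (hE h1)]
  refine ⟨i, _, ?_, ?_, ?_, hBN⟩
  · intro h0
    apply h.bt.R_ne i
    rw [eq_bot_iff, ← h0]
    exact (h.bt.R_le i).trans ((V_le_WW _ _).trans ((W_le_X _ (pt M) i).trans le_sup_left))
  · intro g hg
    obtain ⟨k, hk⟩ := h.bt.perm g hg i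
    obtain ⟨x, hx, ex⟩ := h.bt.trans_X_one k i
    have h1 : x * g ∈ normalizer (pt M i : Set G) := by
      rw [← BTwo.cj_eq_self_iff, BTwo.cj_mul, hk, ex]
    have h2 := key _ h1 (mul_mem (h.bt.X_le_NV hx) hg)
    have h3 : x ∈ normalizer ((XX (zl (S : Subgroup G) P) (pt M) ⊔ E : Subgroup G) : Set G) :=
      le_normalizer (mem_sup_left hx)
    have e : g = x⁻¹ * (x * g) := by group
    rw [e]
    exact mul_mem (inv_mem h3) h2
  · intro g hg
    obtain ⟨e, he, heg⟩ := h.frattini hcen hij hE hUE hER hg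
    have h2 := key _ (mul_mem (hER.trans (centralizer_le_normalizer _) he) hg) heg
    have h3 : e ∈ normalizer ((XX (zl (S : Subgroup G) P) (pt M) ⊔ E : Subgroup G) : Set G) :=
      le_normalizer (mem_sup_right he)
    have e1 : g = e⁻¹ * (e * g) := by group
    rw [e1]
    exact mul_mem (inv_mem h3) h2

end Sit

end Cfsg.Agent.Omega.IIa4

end

section


/-!
# II.a, `q ≥ 4`: the product of the moved components is `⟨A^H⟩` (piece (P4) of #15373)

`up R L` : the preimage in `G` of `L ≤ H = N(R)/O₂(N(R))`.  For `l : Lay V R i j T S` (LAYER at the pair `(i, j)`):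

* `Lay.dat` : the data of `End.AHat`;
* `Lay.mcomp_conj`, `Lay.nc_eq`, `Lay.sylow_eq`, `Lay.mcomp_of_le`, `Lay.nc_perfect` : if `(⨆ K ∈ MComp, K)` is normal in
  `H`, the moved components are permuted by `H`, `⟨A^H⟩ = ⨆ K`, `S ⊓ ⟨A^H⟩ = ⨆ (S ⊓ K)`, the components of `H`
  contained in `⟨A^H⟩` are the moved ones;
* `Sit.mcomp_normal` : in the situation `Sit` with `CenSE` the product of the moved components is normal.
-/

set_option autoImplicit false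
set_option linter.unusedSectionVars false

namespace Cfsg.Agent.Omega.IIa4

open Subgroup Cfsg Cfsg.Agent.ZN Cfsg.Agent.Omega.NatPair Cfsg.Agent.Omega.BTwo
open Cfsg.Agent.Omega.Frame Cfsg.Agent.Omega.FrameFF Cfsg.Agent.Omega.Lie Cfsg.Agent.Omega.Lie.Quot
open Cfsg.Agent.Omega.Lie.End

universe u

/-! ### Preimages in `G` -/

namespace Moved

section up

variable {G : Type u} [Group G] {R : Subgroup G} {L L' : Subgroup (HQ R)}

/-- the preimage in `G` of a subgroup of `N(R)/O₂(N(R))` -/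
def up (R : Subgroup G) (L : Subgroup (HQ R)) : Subgroup G :=
  (L.comap (pr R)).map (normalizer (R : Set G)).subtype

theorem mem_up {g : G} : g ∈ up R L ↔ ∃ hg : g ∈ normalizer (R : Set G), pr R ⟨g, hg⟩ ∈ L := by
  unfold up
  rw [mem_map]
  constructor
  · rintro ⟨x, hx, rfl⟩
    exact ⟨x.2, hx⟩
  · rintro ⟨hg, hL⟩
    exact ⟨⟨g, hg⟩, hL, rfl⟩

theorem up_le : up R L ≤ normalizer (R : Set G) := fun _ hg => (mem_up.1 hg).1

theorem up_mono (h : L ≤ L') : up R L ≤ up R L' := fun g hg => by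
  obtain ⟨h1, h2⟩ := mem_up.1 hg
  exact mem_up.2 ⟨h1, h h2⟩

theorem QQ_le_up : QQ R ≤ up R L := fun g hg => by
  have h1 : g ∈ normalizer (R : Set G) := by
    obtain ⟨x, -, rfl⟩ := hg
    exact x.2
  refine mem_up.2 ⟨h1, ?_⟩
  rw [(pr_eq_one h1).2 hg]
  exact one_mem _

theorem im_up : im R (up R L) = L := by
  ext x
  obtain ⟨g, hg, rfl⟩ := exists_pr x
  rw [pr_mem_im_iff QQ_le_up, mem_up]
  exact ⟨fun ⟨_, h⟩ => h, fun h => ⟨hg, h⟩⟩

theorem le_up {A : Subgroup G} (hA : A ≤ normalizer (R : Set G)) (h : im R A ≤ L) : A ≤ up R L := fun _ hg =>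
  mem_up.2 ⟨hA hg, h (pr_mem_im (hA hg) hg)⟩

theorem up_im {A : Subgroup G} (hQ : QQ R ≤ A) (hA : A ≤ normalizer (R : Set G)) : up R (im R A) = A := by
  refine le_antisymm (fun g hg => ?_) (le_up hA le_rfl)
  obtain ⟨h1, h2⟩ := mem_up.1 hg
  exact (pr_mem_im_iff hQ h1).1 h2

theorem up_conj (hL : L.Normal) {g x : G} (hg : g ∈ normalizer (R : Set G)) (hx : x ∈ up R L) :
    g * x * g⁻¹ ∈ up R L := by
  obtain ⟨h1, h2⟩ := mem_up.1 hx
  exact mem_up.2 ⟨mul_mem (mul_mem hg h1) (inv_mem hg), hL.conj_mem _ h2 (pr R ⟨g, hg⟩)⟩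

/-- the preimage of a normal subgroup is normal in `N(R)` -/
theorem le_normalizer_up (hL : L.Normal) : normalizer (R : Set G) ≤ normalizer (up R L : Set G) := by
  intro g hg
  rw [mem_normalizer_iff]
  intro x
  refine ⟨up_conj hL hg, fun h => ?_⟩
  have h1 := up_conj hL (inv_mem hg) h
  have e : g⁻¹ * (g * x * g⁻¹) * g⁻¹⁻¹ = x := by group
  rwa [e] at h1

theorem up_inf : up R (L ⊓ L') = up R L ⊓ up R L' := by
  ext g
  rw [mem_inf, mem_up, mem_up, mem_up]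
  constructor
  · rintro ⟨h1, h2⟩
    exact ⟨⟨h1, h2.1⟩, ⟨h1, h2.2⟩⟩
  · rintro ⟨⟨h1, h2⟩, ⟨h3, h4⟩⟩
    exact ⟨h1, h2, h4⟩

theorem up_sup : up R (L ⊔ L') = up R L ⊔ up R L' := by
  unfold up
  rw [← Subgroup.map_sup, comap_sup_eq _ _ _ (pr_surjective R)]

end up

section BT

variable {G : Type u} [Group G] {ι : Type*} {V : Subgroup G} {R : ι → Subgroup G} {i j : ι}

/-- `C(R i)` is the preimage of `H⁰` -/
theorem up_H0 (b : BT V R) : up (R i) (H0 R i) = centralizer (R i : Set G) :=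
  up_im (Q_le_C b i) (centralizer_le_normalizer _)

/-- `A` is the image of `Y` -/
theorem im_YY (b : BT V R) (hij : i ≠ j) : im (R i) (YY V R) = AA V R i j := by
  have h1 : UU V R i ≤ QQ (R i) := (UU_le_WW i).trans (b.W_le_Q i)
  rw [b.Y_eq hij, im_sup (h1.trans (b.Q_le i)) (U_le_N b i j), im_eq_bot h1, bot_sup_eq]
  rfl

/-- elements of `N(R i) ⊓ N(V)` normalise `A` -/
theorem norm_A (b : BT V R) (hij : i ≠ j) {g : G} (hg : g ∈ normalizer (R i : Set G))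
    (hV : g ∈ normalizer (V : Set G)) : ∀ a ∈ AA V R i j, pr (R i) ⟨g, hg⟩ * a * (pr (R i) ⟨g, hg⟩)⁻¹ ∈ AA V R i j := by
  rw [← im_YY b hij]
  intro a ha
  obtain ⟨y, hy, hyY, rfl⟩ := mem_im.1 ha
  exact mem_im.2 ⟨_, _, conj_mem_of_normalizer (b.NV_le_NY hV) hyY, rfl⟩

/-- `⟨U_j^{N(R i)}⟩ O₂(N(R i))` -/
def EE (V : Subgroup G) (R : ι → Subgroup G) (i j : ι) : Subgroup G :=
  up (R i) (normalClosure (AA V R i j : Set (HQ (R i))))

theorem U_le_EE (b : BT V R) : UU V R j ≤ EE V R i j :=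
  le_up (U_le_N b i j) fun _ hx => subset_normalClosure hx

theorem Y_le_EE (b : BT V R) (hij : i ≠ j) : YY V R ≤ EE V R i j := by
  refine le_up ((YY_le_cen).trans (b.cen_le_N i)) ?_
  rw [im_YY b hij]
  exact fun _ hx => subset_normalClosure hx

theorem NR_le_NEE : normalizer (R i : Set G) ≤ normalizer (EE V R i j : Set G) :=
  le_normalizer_up inferInstance

theorem EE_le_cen (b : BT V R) : EE V R i j ≤ centralizer (R i : Set G) := by
  rw [← up_H0 b]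
  have := Layer.H0_normal R i
  exact up_mono (normalClosure_le_normal (Layer.A_le_H0 b))

end BT

end Moved

open Moved AHat

/-! ### The moved components -/

namespace Lay

variable {G : Type u} [Group G] {ι : Type*} {V : Subgroup G} {R : ι → Subgroup G} {i j : ι}
  {T S : Subgroup (HQ (R i))} (l : Lay V R i j T S) (b : BT V R) (hij : i ≠ j)
include l b hij

/-- the data of `End.AHat` -/
theorem dat : Dat (H0 R i) S (AA V R i j) T where
  O2 := pCore_HQ (R i)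
  norm := Layer.H0_normal R i
  A_le := Layer.A_le_H0 b
  sq := fun _ ha => A_sq b hij ha
  odd := l.odd
  hyp := l.hyp

variable [Finite G]

/-- `A ⊓ K ≠ 1` for a moved component -/
theorem inf_ne {K : Subgroup (HQ (R i))} (hK : MComp V R i j K) : AA V R i j ⊓ K ≠ ⊥ := (l.dat b hij).inf_ne hK

/-- `K` is moved iff `A ⊓ K ≠ 1` -/
theorem mcomp_iff {K : Subgroup (HQ (R i))} : MComp V R i j K ↔ IsComponent K ∧ K ≤ H0 R i ∧ AA V R i j ⊓ K ≠ ⊥ := by
  refine ⟨fun h => ⟨h.1, h.2.1, l.inf_ne b hij h⟩, fun ⟨h1, h2, h3⟩ => ⟨h1, h2, ?_⟩⟩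
  by_contra hc
  push Not at hc
  exact h3 ((l.dat b hij).inf_eq_bot h1 hc)

theorem comp_le_nc {K : Subgroup (HQ (R i))} (hK : MComp V R i j K) :
    K ≤ normalClosure (AA V R i j : Set (HQ (R i))) := (l.dat b hij).le_nc hK

section normal

variable (hn : (⨆ K ∈ {K : Subgroup (HQ (R i)) | MComp V R i j K}, K).Normal)
include hn

/-- **`⟨A^H⟩ = ∏ K`** -/
theorem nc_eq : normalClosure (AA V R i j : Set (HQ (R i))) = ⨆ K ∈ {K : Subgroup (HQ (R i)) | MComp V R i j K}, K :=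
  le_antisymm (normalClosure_le_normal (l.dat b hij).A_le_prod) (l.dat b hij).prod_le_nc

/-- a component in `⟨A^H⟩` is moved -/
theorem mcomp_of_le {L : Subgroup (HQ (R i))} (hL : IsComponent L)
    (hle : L ≤ normalClosure (AA V R i j : Set (HQ (R i)))) : MComp V R i j L := by
  by_contra hcon
  have h1 : normalClosure (AA V R i j : Set (HQ (R i))) ≤ centralizer (L : Set (HQ (R i))) := by
    rw [l.nc_eq b hij hn]
    refine iSup₂_le fun K hK => ?_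
    exact SignalizersComponents.Components.component_le_centralizer_of_ne hK.1 hL (by rintro rfl; exact hcon hK)
  apply SignalizersComponents.Components.quasisimple_not_isMulCommutative hL.2
  refine ⟨⟨fun x y => Subtype.ext ?_⟩⟩
  exact (mem_centralizer_iff.1 (h1 (hle x.2)) y y.2).symm

/-- the moved components are permuted by `H` -/
theorem mcomp_conj {K : Subgroup (HQ (R i))} (hK : MComp V R i j K) (h : HQ (R i)) : MComp V R i j (cg h K) := by
  refine l.mcomp_of_le b hij hn (SignalizersComponents.Components.isComponent_conj h hK.1) ?_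
  rintro _ ⟨x, hx, rfl⟩
  exact (inferInstance : (normalClosure (AA V R i j : Set (HQ (R i)))).Normal).conj_mem _
    (l.comp_le_nc b hij hK hx) h

/-- `⟨A^H⟩` is perfect -/
theorem nc_perfect : ⁅normalClosure (AA V R i j : Set (HQ (R i))), normalClosure (AA V R i j : Set (HQ (R i)))⁆ =
    normalClosure (AA V R i j : Set (HQ (R i))) :=
  (l.dat b hij).nc_perfect fun _ hK h => l.mcomp_conj b hij hn hK h

/-- **`S ⊓ ⟨A^H⟩ = ∏ (S ⊓ K)`** -/
theorem sylow_eq (hS : IsPGroup 2 S) : S ⊓ normalClosure (AA V R i j : Set (HQ (R i))) =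
    ⨆ K ∈ {K : Subgroup (HQ (R i)) | MComp V R i j K}, S ⊓ K :=
  (l.dat b hij).sylow_eq hS fun _ hK h => l.mcomp_conj b hij hn hK h

end normal

/-- the product of the moved components is normal if `H = ⟨A^H⟩ N_H(A)` -/
theorem normal_of_fac (hfac : ∀ h : HQ (R i), ∃ x ∈ normalClosure (AA V R i j : Set (HQ (R i))),
    ∃ n, (∀ a ∈ AA V R i j, n * a * n⁻¹ ∈ AA V R i j) ∧ h = x * n) :
    (⨆ K ∈ {K : Subgroup (HQ (R i)) | MComp V R i j K}, K).Normal := by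
  have h1 := (l.dat b hij).nc_eq fun _ hK h => (l.dat b hij).inv_of_fac hfac hK h
  change normalClosure (AA V R i j : Set (HQ (R i))) =
    ⨆ K ∈ {K : Subgroup (HQ (R i)) | MComp V R i j K}, K at h1
  rw [← h1]
  infer_instance

end Lay

namespace Sit

variable {G : Type u} [Group G] [Finite G] {S : Sylow 2 G} {P : Subgroup G} {g : G} {F : Type} [Field F]
  [Finite F] [CharP F 2] {M : NatMod F (zl (S : Subgroup G) P)} (h : Sit S P g M)
include h

/-- `H = ⟨A^H⟩ N_H(A)` -/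
theorem fac (hcen : CenSE (zl (S : Subgroup G) P) (pt M)) {i j : Pt M} (hij : i ≠ j) (x : HQ (pt M i)) :
    ∃ e ∈ normalClosure (AA (zl (S : Subgroup G) P) (pt M) i j : Set (HQ (pt M i))), ∃ n,
      (∀ a ∈ AA (zl (S : Subgroup G) P) (pt M) i j, n * a * n⁻¹ ∈ AA (zl (S : Subgroup G) P) (pt M) i j) ∧
      x = e * n := by
  obtain ⟨y, hy, rfl⟩ := exists_pr x
  obtain ⟨e, he, hV⟩ := h.frattini hcen hij (E := EE (zl (S : Subgroup G) P) (pt M) i j) NR_le_NEE (U_le_EE h.bt)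
    (EE_le_cen h.bt) hy
  obtain ⟨heN, heE⟩ := mem_up.1 he
  refine ⟨(Quot.pr (pt M i) ⟨e, heN⟩)⁻¹, inv_mem heE, Quot.pr (pt M i) ⟨e * y, mul_mem heN hy⟩, norm_A h.bt hij _ hV, ?_⟩
  rw [eq_inv_mul_iff_mul_eq, ← map_mul]
  rfl

/-- **(L8)** the product of the moved components is normal -/
theorem mcomp_normal (hcen : CenSE (zl (S : Subgroup G) P) (pt M)) {i j : Pt M} (hij : i ≠ j)
    {T S' : Subgroup (HQ (pt M i))} (l : Lay (zl (S : Subgroup G) P) (pt M) i j T S') :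
    (⨆ K ∈ {K : Subgroup (HQ (pt M i)) | MComp (zl (S : Subgroup G) P) (pt M) i j K}, K).Normal :=
  l.normal_of_fac h.bt hij (h.fac hcen hij)

/-- **`GZero` from a BN-pair of `X ⟨(U j)^{N(R i)}⟩ O₂(N(R i))`** -/
theorem gZero_of_EE (hcen : CenSE (zl (S : Subgroup G) P) (pt M)) {i j : Pt M} (hij : i ≠ j)
    (hBN : HasBN ↥(XX (zl (S : Subgroup G) P) (pt M) ⊔ EE (zl (S : Subgroup G) P) (pt M) i j)) :
    GZero (zl (S : Subgroup G) P) (pt M) :=
  h.gZero_of hcen hij NR_le_NEE (U_le_EE h.bt) (EE_le_cen h.bt) hBN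

end Sit

end Cfsg.Agent.Omega.IIa4

end

section


/-!
# `IIa4.TIRP` (part 3 of the leaf II.a, `q ≥ 4`)
-/

set_option autoImplicit false

namespace Cfsg.Agent.Omega.IIa4

universe u

theorem tirp : TIRP.{u} := fun _ _ _ _ _ _ _ _ _ _ _ h hs hC => h.tir hs hC

end Cfsg.Agent.Omega.IIa4

end
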