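import Cfsg.Agent.Mrg.Omega.VP
import Cfsg.Agent.Mrg.Omega.BTwo.Entry
import Cfsg.Agent.Mrg.Omega.BTwo.Str


/-!
# II.a: the entry (`BTC` from a mutual pair of one type)

`V = V_P` a natural module, `(V, V^g)` a mutual pair, `R = V ∩ V^g`:
* `le_QQ`: `V ≤ O₂(N_G(R))` (so `b = 2`);
* `btc`: the structure `BTC V (points of V)`;
* `exists_crd`: coordinates.
-/

set_option autoImplicit false
set_option linter.unusedSectionVars false

namespace Cfsg.Agent.Omega.IIa4

open Subgroup Cfsg.Agent.Lib.SL2Mat Cfsg.Agent.Omega.NatPair Cfsg.Agent.Omega.BTwo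

section lin

variable {F : Type*} [Field F]

/-- the stabiliser of a line in `SL₂(F)` is transitive on the vectors outside the line -/
theorem exists_move_line {w v y : Fin 2 → F} (hv : dt w v ≠ 0) (hy : dt w y ≠ 0) :
    ∃ A : Matrix.SpecialLinearGroup (Fin 2) F, (∃ c : F, c ≠ 0 ∧ ap A w = c • w) ∧ ap A v = y := by
  set c := dt w v * (dt w y)⁻¹ with hc
  have hc0 : c ≠ 0 := mul_ne_zero hv (inv_ne_zero hy)
  obtain ⟨D, hD1, hD2⟩ := exists_basis hv
  have h1 : dt (c • w) y = dt w v := by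
    rw [dt_smul_left, hc, mul_assoc, inv_mul_cancel₀ hy, mul_one]
  obtain ⟨D', hD1', hD2'⟩ := exists_basis (w := c • w) (u := y) (by rw [h1]; exact hv)
  refine ⟨D' * D⁻¹, ⟨c, hc0, ?_⟩, ?_⟩
  · nth_rewrite 1 [← hD1]
    rw [ap_mul, ap_inv_ap, hD1']
  · have h2 : v = dt w v • ap D ![0, 1] := by rw [hD2, smul_smul, mul_inv_cancel₀ hv, one_smul]
    conv_lhs => rw [h2]
    rw [ap_smul, ap_mul, ap_inv_ap, hD2', h1, smul_smul, mul_inv_cancel₀ hv, one_smul]

end lin

variable {G : Type*} [Group G] {F : Type*} [Field F] {V : Subgroup G}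

/-- the elements of `N(R)` centralising `R` and `Q / R` form a 2-group if `C_{N(R)}(Q) ≤ Q` -/
theorem stab_le [Finite G] {R : Subgroup G} (hR : R ≤ QQ R)
    (hc : normalizer (R : Set G) ⊓ centralizer (QQ R : Set G) ≤ QQ R) {x : G}
    (hx : x ∈ normalizer (R : Set G)) (h1 : ∀ r ∈ R, x * r = r * x)
    (h2 : ∀ y ∈ QQ R, x * y * x⁻¹ * y⁻¹ ∈ R) : x ∈ QQ R := by
  let T : Subgroup G :=
    { carrier := {x | x ∈ normalizer (R : Set G) ∧ (∀ r ∈ R, x * r = r * x) ∧ ∀ y ∈ QQ R, x * y * x⁻¹ * y⁻¹ ∈ R}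
      one_mem' := ⟨one_mem _, fun r _ => by rw [one_mul, mul_one], fun y _ => by
        have : 1 * y * 1⁻¹ * y⁻¹ = 1 := by group
        rw [this]; exact one_mem _⟩
      mul_mem' := by
        rintro a b ⟨ha, ha1, ha2⟩ ⟨hb, hb1, hb2⟩
        refine ⟨mul_mem ha hb, fun r hr => ?_, fun y hy => ?_⟩
        · rw [mul_assoc, hb1 r hr, ← mul_assoc, ha1 r hr, mul_assoc]
        · have e : a * b * y * (a * b)⁻¹ * y⁻¹ = a * (b * y * b⁻¹ * y⁻¹) * a⁻¹ * (a * y * a⁻¹ * y⁻¹) := by group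
          rw [e]
          exact mul_mem (conj_mem_of_normalizer ha (hb2 y hy)) (ha2 y hy)
      inv_mem' := by
        rintro a ⟨ha, ha1, ha2⟩
        refine ⟨inv_mem ha, fun r hr => ?_, fun y hy => ?_⟩
        · rw [inv_mul_eq_iff_eq_mul, ← mul_assoc, ha1 r hr, mul_inv_cancel_right]
        · have e : a⁻¹ * y * a⁻¹⁻¹ * y⁻¹ = a⁻¹ * (a * y * a⁻¹ * y⁻¹)⁻¹ * a := by group
          rw [e]
          exact conj_inv_mem_of_normalizer ha (inv_mem (ha2 y hy)) }
  have hT : IsPGroup 2 T := by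
    refine isPGroup_of_odd fun c hcT ho => ?_
    obtain ⟨hc1, hc2, hc3⟩ := hcT
    have hcQ : c ∈ QQ R := by
      refine hc (mem_inf.2 ⟨hc1, mem_centralizer_iff.2 fun y hy => ?_⟩)
      exact (comm_of_odd ho ((O2_isPGroup _).to_le hR) (hc3 y hy) (hc2 _ (hc3 y hy))).symm
    obtain ⟨n, hn⟩ := O2_isPGroup (normalizer (R : Set G)) ⟨c, hcQ⟩
    have hn' : c ^ 2 ^ n = 1 := congrArg Subtype.val hn
    have hco : Nat.Coprime (orderOf c) (2 ^ n) := (Nat.coprime_two_right.2 ho).pow_right n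
    exact orderOf_eq_one_iff.1 (Nat.eq_one_of_dvd_coprimes hco dvd_rfl (orderOf_dvd_of_pow_eq_one hn'))
  have hTN : T ≤ normalizer (R : Set G) := fun y hy => hy.1
  refine le_O2_of_normal hTN hT ?_ (show x ∈ T from ⟨hx, h1, h2⟩)
  rintro g hg a ⟨ha, ha1, ha2⟩
  refine ⟨mul_mem (mul_mem hg ha) (inv_mem hg), fun r hr => ?_, fun y hy => ?_⟩
  · have h3 := ha1 _ (conj_inv_mem_of_normalizer hg hr)
    calc g * a * g⁻¹ * r = g * (a * (g⁻¹ * r * g)) * g⁻¹ := by group
      _ = g * (g⁻¹ * r * g * a) * g⁻¹ := by rw [h3]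
      _ = r * (g * a * g⁻¹) := by group
  · have h3 := ha2 _ (conj_inv_mem_of_normalizer (le_normalizer_O2 _ hg) hy)
    have h4 := conj_mem_of_normalizer hg h3
    have e : g * (a * (g⁻¹ * y * g) * a⁻¹ * (g⁻¹ * y * g)⁻¹) * g⁻¹ = g * a * g⁻¹ * y * (g * a * g⁻¹)⁻¹ * y⁻¹ := by
      group
    rwa [e] at h4

/-- **`b = 2`** for a mutual pair of one type -/
theorem le_QQ [Finite G] [Finite F] [CharP F 2] (M : NatMod F V) (S : Sylow 2 G)
    (hS : (S : Subgroup G) ≤ normalizer (V : Set G)) {g : G} (h : NatPair.Mutual V (NatPair.cj g V))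
    (hc : normalizer ((V ⊓ NatPair.cj g V : Subgroup G) : Set G) ⊓
      centralizer (QQ (V ⊓ NatPair.cj g V) : Set G) ≤ QQ (V ⊓ NatPair.cj g V)) :
    V ≤ QQ (V ⊓ NatPair.cj g V) := by
  have : Fact (Nat.Prime 2) := ⟨Nat.prime_two⟩
  obtain ⟨-, w, w', hw, hw', hl, -⟩ := pair M (M.conj g) h
  rw [hl] at hc ⊢
  obtain ⟨S₁, hSV, hSR⟩ := M.exists_sylow S hS hw.ne
  have hQS : QQ (M.line w) ≤ (S₁ : Subgroup G) := by
    have h3 : IsPGroup 2 ((S₁ : Subgroup G) ⊔ QQ (M.line w) : Subgroup G) :=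
      S₁.isPGroup'.to_sup_of_normal_right' (O2_isPGroup _) (hSR.trans (le_normalizer_O2 _))
    have h4 := S₁.is_maximal' h3 le_sup_left
    exact le_sup_right.trans_eq h4
  have hQV := hQS.trans hSV
  have hVR : V ≤ normalizer (M.line w : Set G) := by
    intro v hv
    rw [mem_normalizer_iff]
    intro r
    constructor
    · intro hr
      rw [M.comm hv (M.line_le w hr), mul_inv_cancel_right]
      exact hr
    · intro hr
      have h1 : r ∈ V := by
        have h2 := mul_mem (mul_mem (inv_mem hv) (M.line_le w hr)) hv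
        have e : v⁻¹ * (v * r * v⁻¹) * v = r := by group
        rwa [e] at h2
      rwa [M.comm hv h1, mul_inv_cancel_right] at hr
  have hV2 : IsPGroup 2 V := fun v => ⟨1, by
    rw [pow_one, pow_two]; exact Subtype.ext (M.sq v.2)⟩
  have hRQ : M.line w ≤ QQ (M.line w) :=
    le_O2_of_normal le_normalizer (hV2.to_le (M.line_le w)) fun g hg a ha => conj_mem_of_normalizer hg ha
  by_cases hcase : ∃ v ∈ V, v ∈ QQ (M.line w) ∧ v ∉ M.line w
  · obtain ⟨v, hv, hvQ, hvR⟩ := hcase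
    obtain ⟨x, rfl⟩ := (M.mem_iff v).1 hv
    have hx : dt w x ≠ 0 := by
      intro h0
      obtain ⟨c, rfl⟩ := exists_smul_of_dt hw.ne h0
      exact hvR (M.e_mem_line.2 ⟨c, rfl⟩)
    intro v' hv'
    obtain ⟨y, rfl⟩ := (M.mem_iff v').1 hv'
    by_cases hy : dt w y = 0
    · obtain ⟨c, rfl⟩ := exists_smul_of_dt hw.ne hy
      exact hRQ (M.e_mem_line.2 ⟨c, rfl⟩)
    · obtain ⟨A, ⟨c, hc0, hAw⟩, hAx⟩ := exists_move_line hx hy
      obtain ⟨l, hlA⟩ := M.lift A
      have h1 : NatPair.cj l (M.line w) = M.line w := by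
        rw [M.cj_line_of_ind hlA, hAw, M.line_smul hc0]
      have h2 : l ∈ normalizer (M.line w : Set G) := NatPair.cj_eq_iff.1 h1
      have h3 := conj_mem_of_normalizer (le_normalizer_O2 _ h2) hvQ
      rwa [hlA, hAx] at h3
  · push Not at hcase
    intro v hv
    refine stab_le hRQ hc (hVR hv) (fun r hr => M.comm hv (M.line_le w hr)) fun y hy => ?_
    refine hcase _ ?_ ?_
    · have h1 : y * v⁻¹ * y⁻¹ ∈ V := conj_mem_of_normalizer (hQV hy) (inv_mem hv)
      have e : v * y * v⁻¹ * y⁻¹ = v * (y * v⁻¹ * y⁻¹) := by group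
      rw [e]
      exact mul_mem hv h1
    · exact mul_mem (conj_mem_of_normalizer (le_normalizer_O2 _ (hVR hv)) hy) (inv_mem hy)

/-- a nontrivial normal subgroup of `S` contains a central involution of `S` -/
theorem exists_central [Finite G] (S : Sylow 2 G) {T : Subgroup G} (hTS : T ≤ (S : Subgroup G))
    (hn : (S : Subgroup G) ≤ normalizer (T : Set G)) (hT : T ≠ ⊥) :
    ∃ z ∈ T, z ∈ (S : Subgroup G) ∧ z * z = 1 ∧ (∀ s ∈ (S : Subgroup G), s * z = z * s) ∧ z ≠ 1 := by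
  have : Fact (Nat.Prime 2) := ⟨Nat.prime_two⟩
  have h1 : (T.subgroupOf (S : Subgroup G)).Normal := (normal_subgroupOf_iff_le_normalizer hTS).2 hn
  have h2 : Group.IsNilpotent (S : Subgroup G) := S.isPGroup'.isNilpotent
  have h3 : T.subgroupOf (S : Subgroup G) ≠ ⊥ := by
    intro h
    rw [subgroupOf_eq_bot] at h
    exact hT (disjoint_self.1 (h.mono_right hTS))
  have h5 := Cfsg.Agent.Lib.NormalAbelian.normal_inf_center_ne_bot _ h3
  set C : Subgroup (S : Subgroup G) := T.subgroupOf (S : Subgroup G) ⊓ center (S : Subgroup G) with hC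
  have h6 : Nontrivial C := (Subgroup.nontrivial_iff_ne_bot _).2 h5
  have h7 : 2 ∣ Nat.card C := by
    obtain ⟨n, hn⟩ := IsPGroup.iff_card.1 (S.isPGroup'.to_subgroup C)
    rw [hn]
    have : n ≠ 0 := by
      rintro rfl
      rw [pow_zero] at hn
      exact absurd (Finite.one_lt_card_iff_nontrivial.2 h6) (by rw [hn]; norm_num)
    exact dvd_pow_self 2 this
  obtain ⟨z, hz⟩ := exists_prime_orderOf_dvd_card' 2 h7
  have hz2 : z * z = 1 := by
    have h3 := pow_orderOf_eq_one z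
    rwa [hz, pow_two] at h3
  refine ⟨((z : (S : Subgroup G)) : G), ?_, (z : (S : Subgroup G)).2, ?_, ?_, ?_⟩
  · exact mem_subgroupOf.1 (mem_inf.1 z.2).1
  · exact congrArg (fun t : C => ((t : (S : Subgroup G)) : G)) hz2
  · intro s hs
    exact congrArg Subtype.val (mem_center_iff.1 (mem_inf.1 z.2).2 ⟨s, hs⟩)
  · intro h
    have : z = 1 := Subtype.ext (Subtype.ext h)
    rw [this, orderOf_one] at hz
    norm_num at hz

theorem line_ne_bot (M : NatMod F V) {w : Fin 2 → F} (hw : w ≠ 0) : M.line w ≠ ⊥ := by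
  intro h
  have h1 : M.e w ∈ M.line w := M.e_mem_line.2 ⟨1, (one_smul _ _).symm⟩
  rw [h, mem_bot, M.e_eq_one] at h1
  exact hw h1

/-- `C_{N(R)}(O₂(N(R))) ≤ O₂(N(R))` for the lines `R` of `V` -/
theorem cenQ_line [Finite G] [Finite F] [CharP F 2] (hG : IsCharacteristicTwoType G) (M : NatMod F V) (S : Sylow 2 G)
    (hS : (S : Subgroup G) ≤ normalizer (V : Set G)) {w : Fin 2 → F} (hw : w ≠ 0) :
    normalizer (M.line w : Set G) ⊓ centralizer (QQ (M.line w) : Set G) ≤ QQ (M.line w) := by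
  obtain ⟨S₁, -, hSR⟩ := M.exists_sylow S hS hw
  have hR2 : IsPGroup 2 (M.line w) := fun v => ⟨1, by
    rw [pow_one, pow_two]; exact Subtype.ext (M.sq (M.line_le w v.2))⟩
  have hRQ : M.line w ≤ QQ (M.line w) :=
    le_O2_of_normal le_normalizer hR2 fun g hg a ha => conj_mem_of_normalizer hg ha
  have hne : ZN.o2 (normalizer (M.line w : Set G)) ≠ ⊥ := by
    intro h
    apply line_ne_bot M hw
    rw [eq_bot_iff]
    exact hRQ.trans_eq h
  exact MinSimple.Basic.char2_of_o2_ne_bot hG S₁ hSR hne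

/-- **the entry**: `BTC` from a mutual pair of one type -/
theorem btc [Finite G] [Finite F] [CharP F 2] (hG : IsCharacteristicTwoType G) (M : NatMod F V) (S : Sylow 2 G)
    (hS : (S : Subgroup G) ≤ normalizer (V : Set G))
    (hZ : ∀ z ∈ (S : Subgroup G), z * z = 1 → (∀ s ∈ (S : Subgroup G), s * z = z * s) → z ∈ V) {g : G}
    (h : NatPair.Mutual V (NatPair.cj g V)) : V ≤ QQ (V ⊓ NatPair.cj g V) ∧ BTC V (pt M) := by
  have hfact : Fact (Nat.Prime 2) := ⟨Nat.prime_two⟩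
  obtain ⟨-, w, w', hw, hw', hl, -⟩ := pair M (M.conj g) h
  have hQ : V ≤ QQ (V ⊓ NatPair.cj g V) := by
    refine le_QQ M S hS h ?_
    rw [hl]
    exact cenQ_line hG M S hS hw.ne
  have hb := bt M S hS h hQ
  have hTS : ∀ T : Subgroup G, IsPGroup 2 T → normalizer (V : Set G) ≤ normalizer (T : Set G) →
      T ≤ (S : Subgroup G) := fun T hT hn => MinPar.le_of_le_normalizer S hT (hS.trans hn)
  refine ⟨hQ, ⟨hb, ?_, ?_, ?_⟩⟩
  · intro T hT _ hn hTV
    by_contra hne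
    obtain ⟨z, hzT, hzS, hz2, hzc, hz1⟩ := exists_central S (hTS T hT hn) (hS.trans hn) hne
    have h1 : z ∈ T ⊓ V := ⟨hzT, hZ z hzS hz2 hzc⟩
    rw [hTV, mem_bot] at h1
    exact hz1 h1
  · intro i T hT _ _ hVT hRT
    by_contra hne
    have hST : (S : Subgroup G) ≤ normalizer (T : Set G) := hS.trans hVT
    have hTN : T ≤ ZN.o2 (normalizer (T : Set G)) :=
      le_O2_of_normal le_normalizer hT fun g hg a ha => conj_mem_of_normalizer hg ha
    have hne2 : ZN.o2 (normalizer (T : Set G)) ≠ ⊥ := fun h0 => hne (le_bot_iff.1 (h0 ▸ hTN))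
    have hch := MinSimple.Basic.char2_of_o2_ne_bot hG S hST hne2
    -- the line `V ∩ V^g`
    obtain ⟨x, hx, hxR⟩ := hb.trans_one i ⟨M.line w, w, hw.ne, rfl⟩
    have hxR' : BTwo.cj x (pt M i) = M.line w := hxR
    have hRT' : normalizer ((V ⊓ NatPair.cj g V : Subgroup G) : Set G) ≤ normalizer (T : Set G) := by
      rw [hl, ← hxR', BTwo.normalizer_cj]
      rw [cj_le_iff]
      intro y hy
      exact mul_mem (mul_mem (hVT hx) (hRT hy)) (inv_mem (hVT hx))
    refine nonlocal M S hS hZ h hVT hRT' (O2_le _) (O2_isPGroup _) (le_normalizer_O2 _) ?_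
    intro y hy hyc
    exact hch (mem_inf.2 ⟨hy, mem_centralizer_iff.2 fun q hq => hyc q hq⟩)
  · rintro ⟨_, u, hu, rfl⟩
    exact cenQ_line hG M S hS hu

end Cfsg.Agent.Omega.IIa4
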