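import Cfsg.Agent.Mrg.Omega.IIa4.Entry
import Cfsg.Agent.Mrg.Omega.BTwo.CoordNat
import Cfsg.Agent.Mrg.Omega.BTwo.Semi
import Cfsg.Agent.Mrg.Omega.All.Basic

section


/-!
# II.a, `q ≥ 4`: the situation of `FrameFF.LeafA4` in the language of `BTwo`

`Sit S P g M`: the hypotheses of `LeafA4` (without the class `K`); `V = zl S P`, points `pt M i`.
Derived: `Sit.btc`, `Sit.exists_coord`, `Sit.exists_torD`, `Sit.semi` (from `Perf`).
-/

set_option autoImplicit false
set_option linter.unusedSectionVars false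

namespace Cfsg.Agent.Omega.IIa4

open Subgroup Cfsg Cfsg.Agent.ZN Cfsg.Agent.Lib.SL2Mat Cfsg.Agent.Omega.NatPair Cfsg.Agent.Omega.BTwo
open Cfsg.Agent.Omega.Frame Cfsg.Agent.Omega.FrameLE Cfsg.Agent.Omega.FrameFF

universe u

/-- the hypotheses of `FrameFF.LeafA4` -/
structure Sit {G : Type u} [Group G] [Finite G] (S : Sylow 2 G) (P : Subgroup G) (g : G) {F : Type} [Field F]
    [Finite F] [CharP F 2] (M : NatMod F (zl (S : Subgroup G) P)) : Prop where
  ctx : Ctx G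
  full : Full (S : Subgroup G)
  allIn : AllIn (S : Subgroup G)
  allFree : AllFree (S : Subgroup G)
  min : MinSame (S : Subgroup G) P g
  four : 4 ≤ Nat.card F

/-- `[⟨A^{N(R i)}⟩, ⟨A^{N(R i)}⟩] Q i ≥ A`, `A = U j` : the normal closure of `A` in `N(R i) / Q i` is perfect -/
def Perf {G : Type*} [Group G] {ι : Type*} (V : Subgroup G) (R : ι → Subgroup G) (i j : ι) : Prop :=
  UU V R j ≤ ⁅(⨆ h : normalizer (R i : Set G), BTwo.cj (h : G) (UU V R j)),
    (⨆ h : normalizer (R i : Set G), BTwo.cj (h : G) (UU V R j))⁆ ⊔ QQ (R i)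

/-- `O₂(N(R)) = W_R` is semi-extraspecial: `C(W k) = R k`, `Q k = W k` -/
def SemiOut {G : Type*} [Group G] {ι : Type*} (V : Subgroup G) (R : ι → Subgroup G) : Prop :=
  ∀ k, centralizer (WW V (R k) : Set G) = R k ∧ QQ (R k) = WW V (R k)

namespace Sit

variable {G : Type u} [Group G] [Finite G] {S : Sylow 2 G} {P : Subgroup G} {g : G} {F : Type} [Field F]
  [Finite F] [CharP F 2] {M : NatMod F (zl (S : Subgroup G) P)} (h : Sit S P g M)
include h

theorem isParS : MinPar.IsParS (S : Subgroup G) P := h.min.pair.star₁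

theorem pr : NatPair.Mutual (zl (S : Subgroup G) P) (NatPair.cj g (zl (S : Subgroup G) P)) where
  le := h.min.pair.le₂
  le' := h.min.pair.le₁
  ne := by
    by_contra hcon
    push Not at hcon
    apply h.min.pair.ne
    rw [eq_bot_iff, commutator_le]
    intro v hv w hw
    rw [mem_bot, commutatorElement_eq_one_iff_mul_comm]
    exact hcon v hv w hw

theorem le_N : (S : Subgroup G) ≤ normalizer (zl (S : Subgroup G) P : Set G) :=
  h.isParS.le.trans (MinSimple.VModule.le_normalizer_zl _ _)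

theorem P_le_N : P ≤ normalizer (zl (S : Subgroup G) P : Set G) := MinSimple.VModule.le_normalizer_zl _ _

theorem zc_le : zc (S : Subgroup G) ≤ zl (S : Subgroup G) P := MinSimple.VModule.zc_le_zl _ _

theorem cen_mem : ∀ z ∈ (S : Subgroup G), z * z = 1 → (∀ s ∈ (S : Subgroup G), s * z = z * s) →
    z ∈ zl (S : Subgroup G) P := fun z hz hz2 hzc =>
  h.zc_le (MinSimple.VModule.mem_zc.2 ⟨hz, hzc, by rw [pow_two]; exact hz2⟩)

theorem btc_aux : zl (S : Subgroup G) P ≤ QQ (zl (S : Subgroup G) P ⊓ NatPair.cj g (zl (S : Subgroup G) P)) ∧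
    BTC (zl (S : Subgroup G) P) (pt M) := IIa4.btc h.ctx.char2 M S h.le_N h.cen_mem h.pr

/-- `b = 2` -/
theorem V_le_QQ : zl (S : Subgroup G) P ≤ QQ (zl (S : Subgroup G) P ⊓ NatPair.cj g (zl (S : Subgroup G) P)) :=
  h.btc_aux.1

theorem btc : BTC (zl (S : Subgroup G) P) (pt M) := h.btc_aux.2

theorem bt : BT (zl (S : Subgroup G) P) (pt M) := h.btc.toBT

theorem exists_ne : ∃ a : F, a ≠ 0 ∧ a ≠ 1 := by
  by_contra hcon
  push Not at hcon
  have h1 : Set.univ ⊆ ({0, 1} : Set F) := fun a _ => by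
    by_cases ha : a = 0
    · exact Or.inl ha
    · exact Or.inr (hcon a ha)
  have h2 := Set.ncard_le_ncard h1
  rw [Set.ncard_pair zero_ne_one, Set.ncard_univ] at h2
  have := h.four
  omega

/-- coordinates at two points -/
theorem exists_coord {i j : Pt M} (hij : i ≠ j) :
    ∃ (v : F → F → G) (w1 w2 : F → G), Coord (zl (S : Subgroup G) P) (pt M) i j v w1 w2 := by
  obtain ⟨w, u, -, -, -, w1, w2, c⟩ := BTwo.exists_coord M S h.le_N h.pr h.V_le_QQ hij
  exact ⟨_, w1, w2, c⟩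

/-- the torus at two points -/
theorem exists_torD {i j : Pt M} {v : F → F → G} {w1 w2 : F → G}
    (c : Coord (zl (S : Subgroup G) P) (pt M) i j v w1 w2) :
    ∃ t : F → G, Lie.TorD (zl (S : Subgroup G) P) (pt M) i j v t :=
  Lie.coord_exists_torD h.bt c (h.btc.cen_W_isPGroup i)

theorem semi {i j : Pt M} (hij : i ≠ j) (hp : Perf (zl (S : Subgroup G) P) (pt M) i j) :
    SemiOut (zl (S : Subgroup G) P) (pt M) := by
  obtain ⟨v, w1, w2, c⟩ := h.exists_coord hij
  exact fun k => c.semi h.btc h.exists_ne hp k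

theorem exists_pair : ∃ i j : Pt M, i ≠ j := by
  have h1 : (![1, 0] : Fin 2 → F) ≠ 0 := fun h0 => one_ne_zero (congrFun h0 0)
  obtain ⟨j, hj, -⟩ := h.bt.third ⟨M.line ![1, 0], _, h1, rfl⟩ ⟨M.line ![1, 0], _, h1, rfl⟩
  exact ⟨_, _, hj⟩

end Sit

end Cfsg.Agent.Omega.IIa4

end

section


/-!
# II.a, `q ≥ 4`: `⟨N(V), N(R)⟩ = G` from the TI property (`IIa4.AllP`)

`All.sup_eq_top` (helper221) and `All.mixed` (helper942) in the situation `Sit`.
-/

set_option autoImplicit false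
set_option linter.unusedSectionVars false

namespace Cfsg.Agent.Omega.IIa4

open Subgroup Cfsg Cfsg.Agent.ZN Cfsg.Agent.Omega.NatPair Cfsg.Agent.Omega.BTwo
open Cfsg.Agent.Omega.Frame Cfsg.Agent.Omega.FrameLE Cfsg.Agent.Omega.FrameFF

universe u

variable {G : Type u} [Group G] [Finite G]

/-- conjugating a mutual pair -/
theorem mutual_smul {V U : Subgroup G} {h : G} (H : NatPair.Mutual (NatPair.cj h V) U) :
    NatPair.Mutual V (NatPair.cj h⁻¹ U) where
  le := by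
    intro x hx
    rw [NatPair.mem_cj, inv_inv] at hx
    have h1 := H.le hx
    rw [mem_normalizer_iff] at h1 ⊢
    intro v
    have h2 := h1 (h * v * h⁻¹)
    rw [NatPair.mem_cj, NatPair.mem_cj] at h2
    have e1 : h⁻¹ * (h * v * h⁻¹) * h = v := by group
    have e2 : h⁻¹ * (h * x * h⁻¹ * (h * v * h⁻¹) * (h * x * h⁻¹)⁻¹) * h = x * v * x⁻¹ := by group
    rwa [e1, e2] at h2
  le' := by
    intro v hv
    have h1 := H.le' (show h * v * h⁻¹ ∈ NatPair.cj h V by
      rw [NatPair.mem_cj]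
      have : h⁻¹ * (h * v * h⁻¹) * h = v := by group
      rwa [this])
    rw [mem_normalizer_iff] at h1 ⊢
    intro x
    rw [NatPair.mem_cj, NatPair.mem_cj, inv_inv]
    have h2 := h1 (h * x * h⁻¹)
    have e2 : h * v * h⁻¹ * (h * x * h⁻¹) * (h * v * h⁻¹)⁻¹ = h * (v * x * v⁻¹) * h⁻¹ := by group
    rwa [e2] at h2
  ne := by
    obtain ⟨v, hv, w, hw, hne⟩ := H.ne
    rw [NatPair.mem_cj] at hv
    refine ⟨_, hv, h⁻¹ * w * h, ?_, ?_⟩
    · rw [NatPair.mem_cj, inv_inv]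
      have : h * (h⁻¹ * w * h) * h⁻¹ = w := by group
      rwa [this]
    · intro h1
      apply hne
      have h2 := congrArg (fun t => h * t * h⁻¹) h1
      have e1 : h * (h⁻¹ * v * h * (h⁻¹ * w * h)) * h⁻¹ = v * w := by group
      have e2 : h * (h⁻¹ * w * h * (h⁻¹ * v * h)) * h⁻¹ = w * v := by group
      simp only [e1, e2] at h2
      exact h2

/-- `All.Mix` for a member `P'` of a mutual pair with one natural factor and `C_{V'}(O²(P')) = 1` -/
theorem mix_of {F : Type*} [Field F] [Finite F] [CharP F 2] (S : Sylow 2 G) {A : Subgroup G} (M : NatMod F A)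
    {P' : Subgroup G} (hP : MinPar.IsParS (S : Subgroup G) P') (hs : Single (S : Subgroup G) P')
    (hf : Free (S : Subgroup G) P') (hU : zl (S : Subgroup G) P' ≤ (S : Subgroup G)) (hA : A ≤ (S : Subgroup G))
    (h : NatPair.Mutual A (zl (S : Subgroup G) P')) : All.Mix (S : Subgroup G) (zl (S : Subgroup G) P') M := by
  obtain ⟨F', hF1, hF2, hF3, ⟨N⟩⟩ := hs
  rw [hf] at N
  have hSP : (S : Subgroup G) ≤ P' := hP.le
  have hPU : P' ≤ normalizer (zl (S : Subgroup G) P' : Set G) := MinSimple.VModule.le_normalizer_zl _ _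
  obtain ⟨-, hcard, -, hlast⟩ := All.mixed_pair S M N hSP hPU (hU.trans hSP) (hA.trans hSP) h
  obtain ⟨-, w, w', hw, -, hl, -⟩ := All.mixed M (All.natOf N (hU.trans hSP) hPU) (hU.trans hSP) (hA.trans hSP) hPU h
  refine ⟨w, hw.ne, hl, ?_, hcard, hlast⟩
  intro r hr
  rw [hl] at hr
  obtain ⟨a, ha, v, hv, hav⟩ := hw.comm' r⁻¹ (inv_mem hr)
  refine ⟨v, hv, a, ha, ?_⟩
  have e : v * a * v⁻¹ * a⁻¹ = (a * v * a⁻¹ * v⁻¹)⁻¹ := by group
  rw [e, hav, inv_inv]

/-- the point normalised by `S` -/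
theorem exists_fixed {V : Subgroup G} {ι : Type*} {R : ι → Subgroup G} (b : BT V R) {S : Subgroup G}
    (hS : S ≤ normalizer (V : Set G)) {z : G} (hz : z ∈ V) (hz1 : z ≠ 1) (hc : ∀ s ∈ S, s * z = z * s) :
    ∃ i, z ∈ R i ∧ S ≤ normalizer (R i : Set G) := by
  obtain ⟨i, hi⟩ := b.R_cov z hz
  refine ⟨i, hi, fun s hs => ?_⟩
  obtain ⟨k, hk⟩ := b.perm s (hS hs) i
  have h1 : z ∈ R k := by
    rw [← hk, BTwo.mem_cj]
    have h2 : s⁻¹ * z * s = z := by rw [mul_assoc, ← hc s hs]; group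
    rwa [h2]
  by_cases hki : k = i
  · rw [hki] at hk
    exact cj_eq_self_iff.1 hk
  · exact absurd (b.eq_one hki h1 hi) hz1

variable {S : Sylow 2 G} {P : Subgroup G} {g : G} {F : Type} [Field F] [Finite F] [CharP F 2]
  {M : NatMod F (zl (S : Subgroup G) P)}

/-- `zc S ≤ R i` for the point `R i` normalised by `S` -/
theorem Sit.zc_le_pt (h : Sit S P g M) {i : Pt M} (hi : (S : Subgroup G) ≤ normalizer (pt M i : Set G)) :
    zc (S : Subgroup G) ≤ pt M i := by
  obtain ⟨_, w, hw, rfl⟩ := i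
  intro z hz
  have hz' := MinSimple.VModule.mem_zc.1 hz
  exact M.cent_le_of_sylow S h.le_N hw hi ⟨mem_centralizer_iff.2 fun s hs => hz'.2.1 s hs, h.zc_le hz⟩

/-- **the input of THEOREM ALL** -/
theorem Sit.inp (h : Sit S P g M) {i : Pt M} (hi : (S : Subgroup G) ≤ normalizer (pt M i : Set G))
    (hsemi : SemiOut (zl (S : Subgroup G) P) (pt M)) (hcen : ∀ x ∈ WW (zl (S : Subgroup G) P) (pt M i),
      (∀ s ∈ (S : Subgroup G), s ∈ centralizer (pt M i : Set G) → s * x * s⁻¹ * x⁻¹ ∈ pt M i) →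
        x ∈ zl (S : Subgroup G) P)
    (hti : ∀ g r : G, r ∈ pt M i → r ≠ 1 → g * r * g⁻¹ ∈ pt M i → g ∈ normalizer (pt M i : Set G)) :
    All.Inp (S : Subgroup G) (zl (S : Subgroup G) P) (pt M i) (WW (zl (S : Subgroup G) P) (pt M i)) where
  allIn := h.allIn
  VS := (h.allIn P h.isParS).trans (All.o2_CZ_le S)
  SV := h.le_N
  comm := h.bt.V_comm
  RV := h.bt.R_le i
  SR := hi
  ZR := h.zc_le_pt hi
  ti := hti
  W_eq := (hsemi i).2.symm
  W_cen := fun w hw => by
    rw [mem_centralizer_iff]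
    exact fun r hr => (h.bt.QR i w (h.bt.W_le_Q i hw) r hr).symm
  VW := fun x hx => BTwo.cj_le_WW hx
  W_gen := fun X hX => iSup_le fun x => hX x x.2
  WW := fun a ha b hb => h.bt.WW_comm i ha hb
  cenW := (hsemi i).1.le
  line := hcen

open Pointwise in
/-- **`⟨N(V), N(R)⟩ = G`** (`IIa4.AllP`) -/
theorem Sit.genVR (h : Sit S P g M) (hsemi : SemiOut (zl (S : Subgroup G) P) (pt M))
    (hcen : ∀ (i : Pt M) (S₁ : Sylow 2 G), (S₁ : Subgroup G) ≤ normalizer (zl (S : Subgroup G) P : Set G) →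
      (S₁ : Subgroup G) ≤ normalizer (pt M i : Set G) → ∀ x ∈ WW (zl (S : Subgroup G) P) (pt M i),
        (∀ s ∈ (S₁ : Subgroup G), s ∈ centralizer (pt M i : Set G) → s * x * s⁻¹ * x⁻¹ ∈ pt M i) →
          x ∈ zl (S : Subgroup G) P)
    (hti : ∀ (i : Pt M) (g r : G), r ∈ pt M i → r ≠ 1 → g * r * g⁻¹ ∈ pt M i →
      g ∈ normalizer (pt M i : Set G)) (i : Pt M) {Y : Subgroup G}
    (hV : normalizer (zl (S : Subgroup G) P : Set G) ≤ Y) (hR : normalizer (pt M i : Set G) ≤ Y) : Y = ⊤ := by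
  have hZ : zc (S : Subgroup G) ≠ ⊥ := by
    refine MinSimple.Basic.zc_ne_bot S.isPGroup' fun h0 => h.bt.R_ne i (eq_bot_iff.2 ?_)
    exact ((h.bt.R_le i).trans ((h.allIn P h.isParS).trans (All.o2_CZ_le S))).trans_eq h0
  obtain ⟨z, hz1⟩ := Subgroup.ne_bot_iff_exists_ne_one.1 hZ
  have hz := MinSimple.VModule.mem_zc.1 z.2
  obtain ⟨i₀, -, hi₀⟩ := exists_fixed h.bt h.le_N (h.zc_le z.2) (fun h0 => hz1 (Subtype.ext h0)) hz.2.1
  have I := h.inp hi₀ hsemi (hcen i₀ S h.le_N hi₀) (hti i₀)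
  -- the point `i₀` is conjugate to `i` under `N(V)`
  have hR₀ : normalizer (pt M i₀ : Set G) ≤ Y := by
    obtain ⟨x, hx, hxR⟩ := h.bt.trans_one i i₀
    rw [← hxR, BTwo.normalizer_cj, cj_le_iff]
    intro y hy
    exact mul_mem (mul_mem (hV hx) (hR hy)) (inv_mem (hV hx))
  obtain ⟨w₀, hw₀, hw₀'⟩ := i₀.2
  rw [eq_top_iff, ← All.sup_eq_top S I h.ctx.char2 M (w₀ := w₀) hw₀' hZ ?_ h.full]
  · exact sup_le hR₀ hV
  · intro P' hP' x hx hxS hmut
    have hS' : zl (S : Subgroup G) P' ≤ (S : Subgroup G) := (h.allIn P' hP').trans (All.o2_CZ_le S)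
    have hm' := mutual_smul hmut
    have hm : Mutual (S : Subgroup G) P P' x⁻¹ :=
      { star₁ := h.isParS
        star₂ := hP'
        le₁ := hm'.le'
        le₂ := hm'.le
        ne := by
          obtain ⟨v, hv, w, hw, hne⟩ := hm'.ne
          intro h0
          apply hne
          have h1 := commutator_mem_commutator hv (show w ∈ MulAut.conj x⁻¹ • zl (S : Subgroup G) P' from hw)
          rw [h0, mem_bot, commutatorElement_eq_one_iff_mul_comm] at h1
          exact h1 }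
    exact mix_of S (M.conj x) hP' (h.allFree.1 _ _ _ hm).2 (h.allFree.2 _ _ _ hm).2 hS' hxS hmut

end Cfsg.Agent.Omega.IIa4

end

section


/-!
# II.a, `q ≥ 4`: `R` is a TI-set and `C_G(r) ≤ N_G(R)` (THEOREM TIR / F6 in the situation `Sit`)

`Sit.cen_le`, `Sit.tir`: the literal content of `IIa4.TIRP` (`Omega/Node/LeafA4.lean`).
-/

set_option autoImplicit false
set_option linter.unusedSectionVars false

namespace Cfsg.Agent.Omega.IIa4

open Subgroup Cfsg Cfsg.Agent.ZN Cfsg.Agent.Lib.SL2Mat Cfsg.Agent.Omega.NatPair Cfsg.Agent.Omega.BTwo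
open Cfsg.Agent.Omega.Frame Cfsg.Agent.Omega.FrameLE Cfsg.Agent.Omega.FrameFF

universe u

namespace Sit

variable {G : Type u} [Group G] [Finite G] {S : Sylow 2 G} {P : Subgroup G} {g : G} {F : Type} [Field F]
  [Finite F] [CharP F 2] {M : NatMod F (zl (S : Subgroup G) P)} (h : Sit S P g M)
include h

/-- a point containing a central involution of `S`, with `C_G(z) ≤ N_G(R)` -/
theorem exists_cen (hs : SemiOut (zl (S : Subgroup G) P) (pt M))
    (hC : ∀ (i : Pt M) (S₁ : Sylow 2 G), (S₁ : Subgroup G) ≤ normalizer (zl (S : Subgroup G) P : Set G) →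
      (S₁ : Subgroup G) ≤ normalizer (pt M i : Set G) →
      ∀ x ∈ WW (zl (S : Subgroup G) P) (pt M i), (∀ s ∈ (S₁ : Subgroup G), s ∈ centralizer (pt M i : Set G) →
        s * x * s⁻¹ * x⁻¹ ∈ pt M i) → x ∈ zl (S : Subgroup G) P) :
    ∃ (i : Pt M) (z : G), z ∈ pt M i ∧ z ≠ 1 ∧ centralizer {z} ≤ normalizer (pt M i : Set G) := by
  have b := h.btc
  have b' := h.bt
  have hS1 : (S : Subgroup G) ≠ ⊥ := h.ctx.sylow_ne_bot S
  obtain ⟨z, hz, hzS, hz2, hzc, hz1⟩ := exists_central S (T := (S : Subgroup G)) le_rfl le_normalizer hS1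
  have hzV : z ∈ zl (S : Subgroup G) P := h.cen_mem z hzS hz2 hzc
  obtain ⟨i, hi⟩ := b'.R_cov z hzV
  have hSR : (S : Subgroup G) ≤ normalizer (pt M i : Set G) := by
    intro s hs
    obtain ⟨k, hk⟩ := b'.perm s (h.le_N hs) i
    have h1 : z ∈ pt M k := by
      rw [← hk, BTwo.mem_cj, mul_assoc, ← hzc s hs, inv_mul_cancel_left]
      exact hi
    have h2 : k = i := by
      by_contra h3
      exact hz1 (b'.eq_one h3 h1 hi)
    rw [h2] at hk
    exact BTwo.cj_eq_self_iff.1 hk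
  have hzK : (S : Subgroup G) ≤ centralizer {z} := by
    intro s hs
    rw [mem_centralizer_iff]
    intro t ht
    rw [Set.mem_singleton_iff.1 ht]
    exact (hzc s hs).symm
  obtain ⟨j, hj, -⟩ := b'.third i i
  obtain ⟨v, w1, w2, c⟩ := h.exists_coord (Ne.symm hj)
  have hne : ZN.o2 (centralizer {z}) ≠ ⊥ := by
    intro h0
    apply hz1
    have h1 : zpowers z ≤ O2 (centralizer {z}) := by
      refine le_O2_of_normal ?_ ?_ ?_
      · rw [zpowers_le, mem_centralizer_iff]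
        intro t ht
        rw [Set.mem_singleton_iff.1 ht]
      · exact S.isPGroup'.to_le (zpowers_le.2 hzS)
      · intro g hg a ha
        obtain ⟨n, rfl⟩ := mem_zpowers_iff.1 ha
        have h2 : g * z = z * g := (mem_centralizer_iff.1 hg z (Set.mem_singleton _)).symm
        have h3 : g * z ^ n = z ^ n * g := (show Commute g z from h2).zpow_right n
        rw [h3, mul_inv_cancel_right]
        exact ha
    have h2 : z ∈ ZN.o2 (centralizer {z}) := h1 (mem_zpowers z)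
    rw [h0, mem_bot] at h2
    exact h2
  have hch := MinSimple.Basic.char2_of_o2_ne_bot h.ctx.char2 S hzK hne
  refine ⟨i, z, hi, hz1, ?_⟩
  refine (Cz.main c b' (Cz.not_UU_le b S (Ne.symm hj) h.le_N hSR) S h.le_N hSR hi hzK
    (fun g hg hgc => hch (mem_inf.2 ⟨hg, hgc⟩)) fun m hm hmt => ?_).2.2
  rw [(hs i).2] at hm
  exact hC i S h.le_N hSR m hm hmt

/-- `C_G(r) ≤ N_G(R)` for all points `R` and all `1 ≠ r ∈ R` -/
theorem cen_le (hs : SemiOut (zl (S : Subgroup G) P) (pt M))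
    (hC : ∀ (i : Pt M) (S₁ : Sylow 2 G), (S₁ : Subgroup G) ≤ normalizer (zl (S : Subgroup G) P : Set G) →
      (S₁ : Subgroup G) ≤ normalizer (pt M i : Set G) →
      ∀ x ∈ WW (zl (S : Subgroup G) P) (pt M i), (∀ s ∈ (S₁ : Subgroup G), s ∈ centralizer (pt M i : Set G) →
        s * x * s⁻¹ * x⁻¹ ∈ pt M i) → x ∈ zl (S : Subgroup G) P) :
    ∀ (i : Pt M), ∀ r ∈ pt M i, r ≠ 1 → centralizer {r} ≤ normalizer (pt M i : Set G) := by
  obtain ⟨i, z, hz, hz1, hzc⟩ := h.exists_cen hs hC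
  exact Cz.cen_le (fun i j hij => h.exists_coord hij) h.bt hz hz1 hzc

/-- **THEOREM TIR** -/
theorem tir (hs : SemiOut (zl (S : Subgroup G) P) (pt M))
    (hC : ∀ (i : Pt M) (S₁ : Sylow 2 G), (S₁ : Subgroup G) ≤ normalizer (zl (S : Subgroup G) P : Set G) →
      (S₁ : Subgroup G) ≤ normalizer (pt M i : Set G) →
      ∀ x ∈ WW (zl (S : Subgroup G) P) (pt M i), (∀ s ∈ (S₁ : Subgroup G), s ∈ centralizer (pt M i : Set G) →
        s * x * s⁻¹ * x⁻¹ ∈ pt M i) → x ∈ zl (S : Subgroup G) P) (i : Pt M) (g r : G) (hr : r ∈ pt M i)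
    (hr1 : r ≠ 1) (hg : g * r * g⁻¹ ∈ pt M i) : g ∈ normalizer (pt M i : Set G) := by
  obtain ⟨i', z, hz, hz1, hzc⟩ := h.exists_cen hs hC
  exact Cz.tir (fun i j hij => h.exists_coord hij) h.bt hz hz1 hzc i g r hr hr1 hg

end Sit

end Cfsg.Agent.Omega.IIa4

end

section


/-!
# Sylow subgroups of `G` in `N(V) ∩ N(R i)` for every point `R i`
-/

set_option autoImplicit false

universe u

namespace Cfsg.Agent.Omega.SQEnd

open Subgroup Cfsg Cfsg.Agent.ZN Cfsg.Agent.Omega.NatPair Cfsg.Agent.Omega.BTwo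
open Cfsg.Agent.Omega.Frame Cfsg.Agent.Omega.FrameFF Cfsg.Agent.Omega.IIa4

variable {G : Type u} [Group G] [Finite G]

open Pointwise in
/-- every point is normalised by a Sylow subgroup of `G` in `N(V)` -/
theorem exists_sylow {V : Subgroup G} {ι : Type*} {R : ι → Subgroup G} (b : BT V R) (S : Sylow 2 G)
    (hS : (S : Subgroup G) ≤ normalizer (V : Set G)) {z : G} (hz : z ∈ V) (hz1 : z ≠ 1)
    (hc : ∀ s ∈ (S : Subgroup G), s * z = z * s) (i : ι) :
    ∃ S₁ : Sylow 2 G, (S₁ : Subgroup G) ≤ normalizer (V : Set G) ∧ (S₁ : Subgroup G) ≤ normalizer (R i : Set G) := by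
  obtain ⟨i₀, -, h₀⟩ := exists_fixed b hS hz hz1 hc
  obtain ⟨x, hx, hxR⟩ := b.trans_one i₀ i
  have hcj : ((x • S : Sylow 2 G) : Subgroup G) = BTwo.cj x (S : Subgroup G) := by
    ext y
    rw [Sylow.coe_subgroup_smul, mem_pointwise_smul_iff_inv_smul_mem, ← map_inv, MulAut.smul_def,
      MulAut.conj_apply, inv_inv, BTwo.mem_cj]
  refine ⟨x • S, ?_, ?_⟩
  · rw [hcj]
    have := BTwo.cj_mono (g := x) hS
    rwa [← BTwo.normalizer_cj, cj_eq_self_iff.2 hx] at this
  · rw [hcj, ← hxR, BTwo.normalizer_cj]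
    exact BTwo.cj_mono h₀

/-- `|N(R) : N(V) ∩ N(R)|` is odd -/
theorem odd_relIndex {A B : Subgroup G} (S : Sylow 2 G) (hA : (S : Subgroup G) ≤ A) (hB : (S : Subgroup G) ≤ B) :
    Odd ((A ⊓ B).relIndex B) := by
  have h1 : ¬ 2 ∣ (S : Subgroup G).index := S.not_dvd_index
  have h2 : (A ⊓ B).relIndex B * B.index = (A ⊓ B).index := relIndex_mul_index inf_le_right
  have h3 : (S : Subgroup G).relIndex (A ⊓ B) * (A ⊓ B).index = (S : Subgroup G).index :=
    relIndex_mul_index (le_inf hA hB)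
  rw [← Nat.not_even_iff_odd, even_iff_two_dvd]
  intro h
  apply h1
  rw [← h3, ← h2]
  exact Dvd.dvd.mul_left (Dvd.dvd.mul_right h _) _

variable {S : Sylow 2 G} {P : Subgroup G} {g : G} {F : Type} [Field F] [Finite F] [CharP F 2]
  {M : NatMod F (zl (S : Subgroup G) P)}

theorem sit_exists_sylow (h : Sit S P g M) (i : Pt M) : ∃ S₁ : Sylow 2 G,
    (S₁ : Subgroup G) ≤ normalizer (zl (S : Subgroup G) P : Set G) ∧
      (S₁ : Subgroup G) ≤ normalizer (pt M i : Set G) := by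
  have hZ : zc (S : Subgroup G) ≠ ⊥ := by
    refine MinSimple.Basic.zc_ne_bot S.isPGroup' fun h0 => h.bt.R_ne i (eq_bot_iff.2 ?_)
    exact ((h.bt.R_le i).trans ((h.allIn P h.isParS).trans (All.o2_CZ_le S))).trans_eq h0
  obtain ⟨z, hz1⟩ := Subgroup.ne_bot_iff_exists_ne_one.1 hZ
  have hz := MinSimple.VModule.mem_zc.1 z.2
  exact SQEnd.exists_sylow h.bt S h.le_N (h.zc_le z.2) (fun h0 => hz1 (Subtype.ext h0)) hz.2.1 i

end Cfsg.Agent.Omega.SQEnd

end
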